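import Groth.Agent.L19.PicFin.Coalg

/-!
# The coalgebra of a primitive ideal and its torsion
-/

set_option autoImplicit false
set_option linter.style.haveILetI false
set_option linter.unusedSectionVars false
set_option maxHeartbeats 800000

universe u

open scoped TensorProduct
open Groth.L19.AlgGrpBasic (evR evL eq_one_of_axes)

noncomputable section

namespace Groth.L19.PicFin

variable {k A : Type u} [Field k] [IsAlgClosed k] [CommRing A] [Algebra k A] [Algebra.FiniteType k A] [IsDomain A]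
  [Algebra.FiniteType k (A ⊗[k] A)]
  [IsDomain (A ⊗[k] A)] [IsDomain (A ⊗[k] (A ⊗[k] A))] (Δ : A →ₐ[k] A ⊗[k] A) (ε : A →ₐ[k] k)

/-- Comultiplication of the right factor. -/
abbrev mapR : A ⊗[k] A →ₐ[k] A ⊗[k] (A ⊗[k] A) := Algebra.TensorProduct.map (AlgHom.id k A) Δ

/-- Comultiplication of the left factor. -/
abbrev mapL : A ⊗[k] A →ₐ[k] A ⊗[k] (A ⊗[k] A) :=
  (Algebra.TensorProduct.assoc k k k A A A).toAlgHom.comp (Algebra.TensorProduct.map Δ (AlgHom.id k A))

variable {I : Ideal A} (dI : I →ₗ[k] I ⊗[k] I)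

/-- The first iterate. -/
abbrev itR : I ⊗[k] I →ₗ[k] I ⊗[k] (I ⊗[k] I) := TensorProduct.map LinearMap.id dI

/-- The second iterate. -/
abbrev itL : I ⊗[k] I →ₗ[k] I ⊗[k] (I ⊗[k] I) :=
  (TensorProduct.assoc k I I I).toLinearMap ∘ₗ TensorProduct.map dI LinearMap.id

theorem jjj_assoc (z : I ⊗[k] I) (q : I) : jjj (k := k) I (TensorProduct.assoc k I I I (z ⊗ₜ q)) =
    Algebra.TensorProduct.assoc k k k A A A (jj (k := k) I z ⊗ₜ (q : A)) := by
  induction z using TensorProduct.induction_on with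
  | zero => simp
  | tmul a b => rfl
  | add z w hz hw => simp only [TensorProduct.add_tmul, map_add, hz, hw]

variable (hcross : ∀ x y : I, Δ (x : A) * jj (k := k) I (dI y) = Δ (y : A) * jj (k := k) I (dI x))

include hcross in
theorem itR_cross (w z : I ⊗[k] I) :
    jjj (k := k) I (itR dI w) * mapR Δ (jj (k := k) I z) = jjj (k := k) I (itR dI z) * mapR Δ (jj (k := k) I w) := by
  induction w using TensorProduct.induction_on with
  | zero => simp
  | add a b ha hb => simp only [map_add, add_mul, mul_add, ha, hb]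
  | tmul p q =>
    induction z using TensorProduct.induction_on with
    | zero => simp
    | add a b ha hb => simp only [map_add, add_mul, mul_add, ha, hb]
    | tmul p' q' =>
      simp only [itR, TensorProduct.map_tmul, LinearMap.id_coe, id_eq, jjj_tmul, jj_tmul, mapR,
        Algebra.TensorProduct.map_tmul, AlgHom.coe_id, Algebra.TensorProduct.tmul_mul_tmul]
      rw [mul_comm (p : A), mul_comm (jj (k := k) I (dI q)), hcross q' q, mul_comm (Δ (q : A))]

include hcross in
theorem itL_cross (w z : I ⊗[k] I) :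
    jjj (k := k) I (itL dI w) * mapL Δ (jj (k := k) I z) = jjj (k := k) I (itL dI z) * mapL Δ (jj (k := k) I w) := by
  induction w using TensorProduct.induction_on with
  | zero => simp
  | add a b ha hb => simp only [map_add, add_mul, mul_add, ha, hb]
  | tmul p q =>
    induction z using TensorProduct.induction_on with
    | zero => simp
    | add a b ha hb => simp only [map_add, add_mul, mul_add, ha, hb]
    | tmul p' q' =>
      simp only [itL, LinearMap.comp_apply, LinearEquiv.coe_coe, TensorProduct.map_tmul, LinearMap.id_coe, id_eq,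
        jjj_assoc, jj_tmul, mapL, AlgHom.comp_apply, AlgEquiv.toAlgHom_eq_coe, AlgHom.coe_coe,
        Algebra.TensorProduct.map_tmul, AlgHom.coe_id]
      show Algebra.TensorProduct.assoc k k k A A A _ * Algebra.TensorProduct.assoc k k k A A A _ =
        Algebra.TensorProduct.assoc k k k A A A _ * Algebra.TensorProduct.assoc k k k A A A _
      rw [← map_mul, ← map_mul, Algebra.TensorProduct.tmul_mul_tmul, Algebra.TensorProduct.tmul_mul_tmul]
      congr 1
      rw [mul_comm (jj (k := k) I (dI p)), hcross p' p, mul_comm (Δ (p : A)), mul_comm (q : A)]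

variable (hl : ∀ a, e1 ε (Δ a) = a) (hr : ∀ a, evR ε (Δ a) = a) (hco : ∀ a, mapL Δ (Δ a) = mapR Δ (Δ a))
  (hspan : Ideal.span (Set.range fun x => jj (k := k) I (dI x)) = boxSq k I)
  (hc1 : ∀ x : I, e1 ε (jj (k := k) I (dI x)) = x) (hc2 : ∀ x : I, evR ε (jj (k := k) I (dI x)) = x)

/-- The triple ideal. -/
abbrev boxCube (k : Type u) [Field k] {A : Type u} [CommRing A] [Algebra k A] (I : Ideal A) : Ideal (A ⊗[k] (A ⊗[k] A)) :=
  I.map (Algebra.TensorProduct.includeLeft : A →ₐ[k] A ⊗[k] (A ⊗[k] A)).toRingHom *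
    (boxSq k I).map (Algebra.TensorProduct.includeRight : A ⊗[k] A →ₐ[k] A ⊗[k] (A ⊗[k] A)).toRingHom

theorem jjj_mem (w : I ⊗[k] (I ⊗[k] I)) : jjj (k := k) I w ∈ boxCube k I := by
  induction w using TensorProduct.induction_on with
  | zero => simp
  | add a b ha hb => rw [map_add]; exact add_mem ha hb
  | tmul p z =>
    rw [jjj_tmul, show (p : A) ⊗ₜ[k] jj (k := k) I z =
      ((p : A) ⊗ₜ[k] (1 : A ⊗[k] A)) * ((1 : A) ⊗ₜ[k] jj (k := k) I z) by simp]
    refine Ideal.mul_mem_mul (Ideal.mem_map_of_mem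
      (Algebra.TensorProduct.includeLeft : A →ₐ[k] A ⊗[k] (A ⊗[k] A)).toRingHom p.2) (Ideal.mem_map_of_mem
      (Algebra.TensorProduct.includeRight : A ⊗[k] A →ₐ[k] A ⊗[k] (A ⊗[k] A)).toRingHom ?_)
    induction z using TensorProduct.induction_on with
    | zero => simp
    | tmul a b => exact tmul_mem_boxSq a.2 b.2
    | add a b ha hb => rw [map_add]; exact add_mem ha hb

include hspan in
theorem span_tmul (p : I) (z : A ⊗[k] A) (hz : z ∈ boxSq k I) (J : Ideal (A ⊗[k] (A ⊗[k] A)))
    (hJ : ∀ (p : I) (x : I), (p : A) ⊗ₜ[k] jj (k := k) I (dI x) ∈ J) : (p : A) ⊗ₜ[k] z ∈ J := by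
  rw [← hspan] at hz
  refine Submodule.span_induction ?_ ?_ ?_ ?_ hz
  · rintro _ ⟨x, rfl⟩
    exact hJ p x
  · rw [TensorProduct.tmul_zero]; exact zero_mem _
  · intro a b _ _ ha hb
    rw [TensorProduct.tmul_add]; exact add_mem ha hb
  · intro c a _ ha
    rw [show (p : A) ⊗ₜ[k] (c • a) = ((1 : A) ⊗ₜ[k] c) * ((p : A) ⊗ₜ[k] a) by simp]
    exact J.mul_mem_left _ ha

include hspan in
theorem boxCube_le {J : Ideal (A ⊗[k] (A ⊗[k] A))}
    (hJ : ∀ (p : I) (x : I), (p : A) ⊗ₜ[k] jj (k := k) I (dI x) ∈ J) : boxCube k I ≤ J := by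
  rw [boxCube, Ideal.map, Ideal.map, Ideal.span_mul_span', Ideal.span_le]
  rintro _ ⟨_, ⟨a, ha, rfl⟩, _, ⟨z, hz, rfl⟩, rfl⟩
  show ((a ⊗ₜ[k] (1 : A ⊗[k] A)) * ((1 : A) ⊗ₜ[k] z) : A ⊗[k] (A ⊗[k] A)) ∈ J
  rw [Algebra.TensorProduct.tmul_mul_tmul, _root_.mul_one, _root_.one_mul]
  exact span_tmul dI hspan ⟨a, ha⟩ z hz J hJ

include hspan in
/-- Iterated values generate the triple ideal. -/
theorem span_it (it : I ⊗[k] I →ₗ[k] I ⊗[k] (I ⊗[k] I)) (φ : A ⊗[k] A →ₐ[k] A ⊗[k] (A ⊗[k] A))
    (hφ : ∀ z, φ z = 0 → z = 0) (hit : ∀ w z, jjj (k := k) I (it w) * φ (jj (k := k) I z) =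
      jjj (k := k) I (it z) * φ (jj (k := k) I w)) {y : I} (hy : jj (k := k) I (dI y) ≠ 0) (w : I ⊗[k] I) :
    jjj (k := k) I (it w) ∈ Ideal.span (Set.range fun x => jjj (k := k) I (it (dI x))) := by
  set Q := Ideal.span (Set.range fun x => jjj (k := k) I (it (dI x))) with hQ
  have hw : jj (k := k) I w ∈ Ideal.span (Set.range fun x => jj (k := k) I (dI x)) := by
    rw [hspan]
    clear hit
    induction w using TensorProduct.induction_on with
    | zero => simp
    | tmul a b => exact tmul_mem_boxSq a.2 b.2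
    | add a b ha hb => rw [map_add]; exact add_mem ha hb
  obtain ⟨q, hq, hq'⟩ : ∃ q ∈ Q, jjj (k := k) I (it (dI y)) * φ (jj (k := k) I w) = q * φ (jj (k := k) I (dI y)) := by
    refine Submodule.span_induction ?_ ?_ ?_ ?_ hw
    · rintro _ ⟨x, rfl⟩
      exact ⟨_, Ideal.subset_span ⟨x, rfl⟩, hit (dI y) (dI x)⟩
    · exact ⟨0, Q.zero_mem, by simp⟩
    · rintro a b - - ⟨q, hq, e⟩ ⟨r, hr, e'⟩
      exact ⟨q + r, Q.add_mem hq hr, by rw [map_add, mul_add, add_mul, e, e']⟩
    · rintro c a - ⟨q, hq, e⟩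
      exact ⟨φ c * q, Q.mul_mem_left _ hq, by rw [smul_eq_mul, map_mul, mul_left_comm, e, mul_assoc]⟩
  rw [← hit w (dI y)] at hq'
  rw [mul_right_cancel₀ (fun h => hy (hφ _ h)) hq']
  exact hq

/-- Contraction of the first factor of the cube. -/
theorem e1_assoc (b : A ⊗[k] A) (q : A) :
    e1 ε (B := A ⊗[k] A) (Algebra.TensorProduct.assoc k k k A A A (b ⊗ₜ q)) = e1 ε (B := A) b ⊗ₜ[k] q := by
  induction b using TensorProduct.induction_on with
  | zero => simp
  | tmul a c => simp [TensorProduct.smul_tmul']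
  | add a b ha hb => simp only [TensorProduct.add_tmul, map_add, ha, hb]

/-- The double counit. -/
abbrev εε : A ⊗[k] A →ₐ[k] k := ε.comp (e1 ε (B := A))

theorem evR_assoc (b : A ⊗[k] A) (q : A) :
    evR (A := A) (εε ε) (Algebra.TensorProduct.assoc k k k A A A (b ⊗ₜ q)) = ε q • evR (A := A) ε b := by
  induction b using TensorProduct.induction_on with
  | zero => simp
  | tmul a c => simp [evR, εε, smul_smul, mul_comm]
  | add a b ha hb => simp only [TensorProduct.add_tmul, map_add, ha, hb, smul_add]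

include hl hr hco hcross hspan hc1 hc2 in
/-- Coassociativity. -/
theorem itR_eq_itL {x₀ : I} (hx₀ : (x₀ : A) ≠ 0) (hI : IsLP I) (x : I) : itR dI (dI x) = itL dI (dI x) := by
  apply injective_jjj (k := k)
  have hinjR : ∀ z, mapR Δ z = 0 → z = 0 := fun z h => by
    have hret : ∀ z, Algebra.TensorProduct.map (AlgHom.id k A) (e1 ε (B := A)) (mapR Δ z) = z := fun z => by
      induction z using TensorProduct.induction_on with
      | zero => simp
      | tmul a b => simp only [mapR, Algebra.TensorProduct.map_tmul, AlgHom.coe_id, id_eq, hl]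
      | add a b ha hb => simp only [map_add, ha, hb]
    rw [← hret z, h, map_zero]
  have hinjL : ∀ z, mapL Δ z = 0 → z = 0 := fun z h => by
    have h' : Algebra.TensorProduct.map Δ (AlgHom.id k A) z = 0 :=
      (Algebra.TensorProduct.assoc k k k A A A).injective (h.trans (map_zero _).symm)
    have hret : ∀ z, Algebra.TensorProduct.map (e1 ε (B := A)) (AlgHom.id k A)
        (Algebra.TensorProduct.map Δ (AlgHom.id k A) z) = z := fun z => by
      induction z using TensorProduct.induction_on with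
      | zero => simp
      | tmul a b => simp only [Algebra.TensorProduct.map_tmul, AlgHom.coe_id, id_eq, hl]
      | add a b ha hb => simp only [map_add, ha, hb]
    rw [← hret z, h', map_zero]
  have hd0 : ∀ {y : I}, (y : A) ≠ 0 → jj (k := k) I (dI y) ≠ 0 := fun {y} hy h => hy (by rw [← hc1 y, h, map_zero])
  have hΔ0 : mapR Δ (Δ (x₀ : A)) ≠ 0 := fun h => hx₀ (by rw [← hl (x₀ : A), hinjR _ h, map_zero])
  let L₁ : I → A ⊗[k] (A ⊗[k] A) := fun x => jjj (k := k) I (itR dI (dI x))
  let L₂ : I → A ⊗[k] (A ⊗[k] A) := fun x => jjj (k := k) I (itL dI (dI x))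
  let W : A → A ⊗[k] (A ⊗[k] A) := fun a => mapR Δ (Δ a)
  have key : ∀ (L : I → A ⊗[k] (A ⊗[k] A)) (it : I ⊗[k] I →ₗ[k] I ⊗[k] (I ⊗[k] I))
      (φ : A ⊗[k] A →ₐ[k] A ⊗[k] (A ⊗[k] A)), (∀ z, φ z = 0 → z = 0) → (∀ a, φ (Δ a) = W a) →
      (∀ w z, jjj (k := k) I (it w) * φ (jj (k := k) I z) = jjj (k := k) I (it z) * φ (jj (k := k) I w)) →
      (∀ x, L x = jjj (k := k) I (it (dI x))) → ∀ x, L x * W x₀ = L x₀ * W x := by
    intro L it φ hφ hW hit hL x
    rw [hL, hL, ← hW, ← hW]
    refine mul_right_cancel₀ (fun h => hd0 hx₀ (hφ _ h)) ?_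
    have h1 := hit (dI x) (dI x₀)
    have h2 := congrArg φ (hcross (x₀ : I) x)
    rw [map_mul, map_mul] at h2
    linear_combination (norm := ring1) φ (Δ (x₀ : A)) * h1 + jjj (k := k) I (it (dI x₀)) * h2
  have k₁ := key L₁ (itR dI) (mapR Δ) hinjR (fun a => rfl) (itR_cross Δ dI hcross) (fun x => rfl)
  have k₂ := key L₂ (itL dI) (mapL Δ) hinjL hco (itL_cross Δ dI hcross) (fun x => rfl)
  have hcr : ∀ a b, L₁ a * L₂ b = L₁ b * L₂ a := fun a b => by
    refine mul_right_cancel₀ (mul_ne_zero hΔ0 hΔ0) ?_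
    show L₁ a * L₂ b * (W x₀ * W x₀) = L₁ b * L₂ a * (W x₀ * W x₀)
    linear_combination (norm := ring1) L₂ b * W x₀ * k₁ a + L₁ x₀ * W a * k₂ b
      - L₂ a * W x₀ * k₁ b - L₁ x₀ * W b * k₂ a
  have hs₁ : Ideal.span (Set.range L₁) = boxCube k I := by
    refine le_antisymm (Ideal.span_le.2 (by rintro _ ⟨x, rfl⟩; exact jjj_mem _)) (boxCube_le dI hspan fun p q => ?_)
    exact span_it dI hspan (itR dI) (mapR Δ) hinjR (itR_cross Δ dI hcross) (hd0 hx₀) (p ⊗ₜ q)
  have hs₂ : Ideal.span (Set.range L₂) = boxCube k I := by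
    refine le_antisymm (Ideal.span_le.2 (by rintro _ ⟨x, rfl⟩; exact jjj_mem _)) ?_
    -- the left iterate reaches every pure tensor
    have hreach : ∀ (b : A ⊗[k] A), b ∈ boxSq k I → ∀ q : I,
        Algebra.TensorProduct.assoc k k k A A A (b ⊗ₜ (q : A)) ∈ Ideal.span (Set.range L₂) := by
      intro b hb q
      rw [← hspan] at hb
      refine Submodule.span_induction ?_ ?_ ?_ ?_ hb
      · rintro _ ⟨p, rfl⟩
        rw [← jjj_assoc]
        exact span_it dI hspan (itL dI) (mapL Δ) hinjL (itL_cross Δ dI hcross) (hd0 hx₀) (p ⊗ₜ q)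
      · rw [TensorProduct.zero_tmul, map_zero]; exact zero_mem _
      · intro a c _ _ ha hc
        rw [TensorProduct.add_tmul, map_add]; exact add_mem ha hc
      · intro c a _ ha
        rw [show (c • a) ⊗ₜ[k] (q : A) = (c ⊗ₜ[k] (1 : A)) * (a ⊗ₜ[k] (q : A)) by simp, map_mul]
        exact Ideal.mul_mem_left _ _ ha
    refine boxCube_le dI hspan fun p x => ?_
    have hmem : ∀ z : I ⊗[k] I, (p : A) ⊗ₜ[k] jj (k := k) I z ∈ Ideal.span (Set.range L₂) := fun z => by
      induction z using TensorProduct.induction_on with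
      | zero => simp
      | tmul a b => exact hreach _ (tmul_mem_boxSq p.2 a.2) b
      | add a b ha hb => rw [map_add, TensorProduct.tmul_add]; exact add_mem ha hb
    exact hmem _
  have hne : boxCube k I ≠ ⊥ := by
    rw [← hs₁]
    intro h
    have h0 : jjj (k := k) I (itR dI (dI x₀)) = 0 := Ideal.span_eq_bot.1 h _ ⟨x₀, rfl⟩
    have h1 : ∀ z : I ⊗[k] I, Algebra.TensorProduct.map (AlgHom.id k A) (e1 ε (B := A)) (jjj (k := k) I (itR dI z)) =
        jj (k := k) I z := fun z => by
      induction z using TensorProduct.induction_on with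
      | zero => simp
      | tmul a b => simp only [itR, TensorProduct.map_tmul, LinearMap.id_coe, id_eq, jjj_tmul,
          Algebra.TensorProduct.map_tmul, AlgHom.coe_id, hc1, jj_tmul]
      | add a b ha hb => simp only [map_add, ha, hb]
    exact hd0 hx₀ (by rw [← h1, h0, map_zero])
  obtain ⟨u, hu⟩ := exists_unit_ratio L₁ L₂ hne
    ((hI.map _).mul ((((hI.map _).mul (hI.map _))).map _)) hs₁ hs₂ hcr
  -- contractions
  let cI₁ : I ⊗[k] I →ₗ[k] I :=
    (TensorProduct.lid k I).toLinearMap ∘ₗ LinearMap.rTensor I (ε.toLinearMap ∘ₗ (I.restrictScalars k).subtype)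
  let cI₂ : I ⊗[k] I →ₗ[k] I :=
    (TensorProduct.rid k I).toLinearMap ∘ₗ LinearMap.lTensor I (ε.toLinearMap ∘ₗ (I.restrictScalars k).subtype)
  have hcI₁ : ∀ z, (cI₁ z : A) = e1 ε (jj (k := k) I z) := fun z => by
    induction z using TensorProduct.induction_on with
    | zero => simp
    | tmul a b => simp [cI₁, jj_tmul]; rfl
    | add a b ha hb => simp only [map_add, Submodule.coe_add, ha, hb]
  have hcI₂ : ∀ z, (cI₂ z : A) = evR ε (jj (k := k) I z) := fun z => by
    induction z using TensorProduct.induction_on with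
    | zero => simp
    | tmul a b => simp [cI₂, jj_tmul, evR]; rfl
    | add a b ha hb => simp only [map_add, Submodule.coe_add, ha, hb]
  have hR1 : ∀ z, e1 ε (B := A ⊗[k] A) (jjj (k := k) I (itR dI z)) = jj (k := k) I (dI (cI₁ z)) := fun z => by
    induction z using TensorProduct.induction_on with
    | zero => simp
    | tmul a b => simp [itR, jjj_tmul, cI₁]; rfl
    | add a b ha hb => simp only [map_add, ha, hb]
  have hR2 : ∀ z, evR (A := A) (εε ε) (jjj (k := k) I (itR dI z)) = (cI₂ z : A) := fun z => by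
    induction z using TensorProduct.induction_on with
    | zero => simp
    | tmul a b =>
      simp only [itR, TensorProduct.map_tmul, LinearMap.id_coe, id_eq, jjj_tmul]
      rw [show evR (A := A) (εε ε) ((a : A) ⊗ₜ[k] jj (k := k) I (dI b)) =
        ε (e1 ε (B := A) (jj (k := k) I (dI b))) • (a : A) by simp [evR, εε], hc1]
      simp [cI₂]; rfl
    | add a b ha hb => simp only [map_add, Submodule.coe_add, ha, hb]
  have hL1 : ∀ z, e1 ε (B := A ⊗[k] A) (jjj (k := k) I (itL dI z)) = jj (k := k) I z := fun z => by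
    induction z using TensorProduct.induction_on with
    | zero => simp
    | tmul a b => simp only [itL, LinearMap.comp_apply, LinearEquiv.coe_coe, TensorProduct.map_tmul, LinearMap.id_coe,
        id_eq, jjj_assoc, e1_assoc, hc1, jj_tmul]
    | add a b ha hb => simp only [map_add, ha, hb]
  have hL2 : ∀ z, evR (A := A) (εε ε) (jjj (k := k) I (itL dI z)) = (cI₂ z : A) := fun z => by
    induction z using TensorProduct.induction_on with
    | zero => simp
    | tmul a b =>
      simp only [itL, LinearMap.comp_apply, LinearEquiv.coe_coe, TensorProduct.map_tmul, LinearMap.id_coe,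
        id_eq, jjj_assoc, evR_assoc, hc2]
      simp [cI₂]; rfl
    | add a b ha hb => simp only [map_add, Submodule.coe_add, ha, hb]
  have hu1 : evR (A := A) (εε ε) (u : A ⊗[k] (A ⊗[k] A)) = 1 := by
    have h := congrArg (evR (A := A) (εε ε)) (hu x₀)
    rw [map_mul, hR2, hL2, hcI₂, hc2] at h
    exact mul_right_cancel₀ hx₀ (h.symm.trans (_root_.one_mul _).symm)
  have hu2 : evL ε.toLinearMap (u : A ⊗[k] (A ⊗[k] A)) = 1 := by
    have heq : ∀ z : A ⊗[k] (A ⊗[k] A), evL ε.toLinearMap z = e1 ε (B := A ⊗[k] A) z := fun z => by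
      induction z using TensorProduct.induction_on with
      | zero => simp
      | tmul a b => simp [evL]
      | add a b ha hb => simp only [map_add, ha, hb]
    rw [heq]
    have h := congrArg (e1 ε (B := A ⊗[k] A)) (hu x₀)
    rw [map_mul, hR1, hL1, show cI₁ (dI x₀) = x₀ from Subtype.ext (by rw [hcI₁, hc1])] at h
    exact mul_right_cancel₀ (hd0 hx₀) (h.symm.trans (_root_.one_mul _).symm)
  have hone := eq_one_of_axes (u : A ⊗[k] (A ⊗[k] A)) u.isUnit ε (εε ε) hu1 hu2
  show L₁ x = L₂ x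
  rw [hu x, hone, _root_.one_mul]

/-- Powers of a locally principal ideal are bounded by powers of a generator. -/
theorem pow_dvd_mul_of_mem_pow {R : Type*} [CommRing R] {J : Ideal R} {f t : R} (h : ∀ x ∈ J, f ∣ t * x) :
    ∀ (m : ℕ), ∀ x ∈ J ^ m, f ^ m ∣ t ^ m * x
  | 0, x, _ => by simp
  | m + 1, x, hx => by
    rw [pow_succ] at hx
    refine Submodule.mul_induction_on hx (fun a ha b hb => ?_) (fun a b ha hb => by rw [mul_add]; exact dvd_add ha hb)
    rw [pow_succ, pow_succ, mul_mul_mul_comm]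
    exact mul_dvd_mul (pow_dvd_mul_of_mem_pow h m a ha) (h b hb)

include hl hr hco hcross hspan hc1 hc2 in
/-- The determinant of a left coideal generates a power of the ideal. -/
theorem exists_pow_eq_span {x₀ : I} (hx₀ : (x₀ : A) ≠ 0) (hεx₀ : ∃ x : I, ε (x : A) ≠ 0) (hI : IsLP I)
    (hinv : ∀ g : A →ₐ[k] k, ∃ h : A →ₐ[k] k, ∀ a, Algebra.TensorProduct.lift g h (fun _ _ => .all _ _) (Δ a) = ε a) :
    ∃ m, 0 < m ∧ ∃ D, I ^ m = Ideal.span {D} := by
  classical
  have hco' : ∀ x, itR dI (dI x) = itL dI (dI x) := itR_eq_itL Δ ε dI hcross hl hr hco hspan hc1 hc2 hx₀ hI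
  let b := Module.Free.chooseBasis k I
  let E := TensorProduct.equivFinsuppOfBasisLeft (N := I) b
  let w := E (dI x₀)
  let W : Submodule k I := Submodule.span k (Set.range fun c : w.support => w c)
  haveI : FiniteDimensional k W := FiniteDimensional.span_of_finite k (Set.finite_range _)
  -- the counit contraction
  let εI : I →ₗ[k] k := ε.toLinearMap ∘ₗ (I.restrictScalars k).subtype
  let cI₁ : I ⊗[k] I →ₗ[k] I := (TensorProduct.lid k I).toLinearMap ∘ₗ LinearMap.rTensor I εI
  have hcI₁ : ∀ z, (cI₁ z : A) = e1 ε (jj (k := k) I z) := fun z => by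
    induction z using TensorProduct.induction_on with
    | zero => simp
    | tmul a c => simp [cI₁, εI, jj_tmul]; rfl
    | add a c ha hc => simp only [map_add, Submodule.coe_add, ha, hc]
  have hcd : ∀ x, cI₁ (dI x) = x := fun x => Subtype.ext (by rw [hcI₁, hc1])
  have hx₀W : x₀ ∈ W := by
    rw [← hcd x₀]
    have hz : dI x₀ = w.sum fun c y => b c ⊗ₜ[k] y := by
      rw [← TensorProduct.equivFinsuppOfBasisLeft_symm_apply]
      exact (E.symm_apply_apply _).symm
    rw [hz, map_finsuppSum]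
    refine Submodule.sum_mem _ fun c hc => ?_
    simp only [cI₁, LinearMap.comp_apply, LinearMap.rTensor_tmul, LinearEquiv.coe_coe, TensorProduct.lid_tmul]
    exact Submodule.smul_mem _ _ (Submodule.subset_span ⟨⟨c, hc⟩, rfl⟩)
  have hstab : ∀ y ∈ W, dI y ∈ LinearMap.range (LinearMap.lTensor I W.subtype) := by
    intro y hy
    refine (Submodule.span_le (p := Submodule.comap dI (LinearMap.range (LinearMap.lTensor I W.subtype)))).2 ?_ hy
    rintro _ ⟨⟨c, hc⟩, rfl⟩
    show dI (w c) ∈ LinearMap.range (LinearMap.lTensor I W.subtype)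
    -- contract the first factor of coassociativity
    let Φ : I ⊗[k] (I ⊗[k] I) →ₗ[k] I ⊗[k] I :=
      (TensorProduct.lid k _).toLinearMap ∘ₗ LinearMap.rTensor _ (b.coord c)
    have h1 : ∀ z, Φ (itR dI z) = dI (E z c) := fun z => by
      induction z using TensorProduct.induction_on with
      | zero => simp
      | tmul a e => simp [Φ, E, itR, TensorProduct.equivFinsuppOfBasisLeft_apply_tmul_apply]
      | add a e ha he => simp only [map_add, ha, he, Finsupp.add_apply]
    have h2 : ∀ (a : I ⊗[k] I) (y : I), y ∈ W →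
        Φ (TensorProduct.assoc k I I I (a ⊗ₜ y)) ∈ LinearMap.range (LinearMap.lTensor I W.subtype) := fun a y hy => by
      induction a using TensorProduct.induction_on with
      | zero => simp
      | tmul p q =>
        refine ⟨(b.coord c p • q) ⊗ₜ ⟨y, hy⟩, ?_⟩
        simp [Φ, TensorProduct.smul_tmul']
      | add a e ha he => simp only [TensorProduct.add_tmul, map_add]; exact add_mem ha he
    rw [show w c = E (dI x₀) c from rfl, ← h1, hco', ← E.symm_apply_apply (dI x₀),
      TensorProduct.equivFinsuppOfBasisLeft_symm_apply]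
    simp only [Finsupp.sum, map_sum]
    refine Submodule.sum_mem _ fun e he => ?_
    show Φ (TensorProduct.assoc k I I I (dI (b e) ⊗ₜ w e)) ∈ _
    exact h2 _ _ (Submodule.subset_span ⟨⟨e, he⟩, rfl⟩)
  let m := Module.finrank k W
  let v := Module.finBasis k W
  choose zv hzv using fun j : Fin m => hstab (v j) (v j).2
  let a : Fin m → Fin m → I := fun i j => TensorProduct.equivFinsuppOfBasisRight (M := I) v (zv j) i
  have hdv : ∀ j, dI (v j) = ∑ i, a i j ⊗ₜ[k] (v i : I) := fun j => by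
    conv_lhs => rw [← hzv j, ← (TensorProduct.equivFinsuppOfBasisRight (M := I) v).symm_apply_apply (zv j),
      TensorProduct.equivFinsuppOfBasisRight_symm_apply]
    rw [map_finsuppSum, Finsupp.sum_fintype]
    · rfl
    · intro i; simp
  obtain ⟨π, hπ⟩ := LinearMap.exists_leftInverse_of_injective W.subtype (Submodule.ker_subtype W)
  let f : Fin m → I →ₗ[k] k := fun i => v.coord i ∘ₗ π
  have hf : ∀ i j, f i (v j : I) = if j = i then 1 else 0 := fun i j => by
    show v.repr (π (W.subtype (v j))) i = _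
    rw [show π (W.subtype (v j)) = v j from LinearMap.congr_fun hπ _, Module.Basis.repr_self, Finsupp.single_apply]
  have hεa : ∀ i j, ε (a i j : A) = if j = i then 1 else 0 := by
    intro i j
    have h1 : (v j : I) = ∑ l, ε (a l j : A) • (v l : I) := by
      conv_lhs => rw [← hcd (v j : I), hdv j]
      rw [map_sum]
      exact Finset.sum_congr rfl fun l _ => by simp [cI₁, εI]; rfl
    have h2 := congrArg (f i) h1
    rw [hf, map_sum] at h2
    rw [h2, Finset.sum_eq_single i]
    · simp [hf]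
    · intro l _ hl; simp [hf, hl]
    · simp
  have hda : ∀ l j, dI (a l j) = ∑ i, a i j ⊗ₜ[k] a l i := by
    intro l j
    let Ψ : I ⊗[k] (I ⊗[k] I) →ₗ[k] I ⊗[k] I :=
      LinearMap.lTensor I ((TensorProduct.rid k I).toLinearMap ∘ₗ LinearMap.lTensor I (f l))
    have h1 := congrArg Ψ (hco' (v j : I))
    have h2 : ∀ (z : I ⊗[k] I) (y : I), Ψ (TensorProduct.assoc k I I I (z ⊗ₜ y)) = f l y • z := fun z y => by
      induction z using TensorProduct.induction_on with
      | zero => simp
      | tmul p q => simp [Ψ]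
      | add p q hp hq => simp only [TensorProduct.add_tmul, map_add, hp, hq, smul_add]
    rw [hdv j] at h1
    simp only [map_sum, itR, itL, LinearMap.comp_apply, LinearEquiv.coe_coe, TensorProduct.map_tmul, LinearMap.id_coe,
      id_eq, h2, hf] at h1
    have hs : ∑ i, (if i = l then (1 : k) else 0) • dI (a i j) = dI (a l j) := by simp
    rw [hs] at h1
    rw [← h1]
    refine Finset.sum_congr rfl fun i _ => ?_
    rw [hdv i]
    simp only [Ψ, LinearMap.lTensor_tmul, LinearMap.comp_apply, map_sum, LinearEquiv.coe_coe, TensorProduct.rid_tmul, hf]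
    rw [Finset.sum_eq_single l (fun e _ he => by simp [he]) (by simp), if_pos rfl, one_smul]
  let Mx : Matrix (Fin m) (Fin m) A := fun i j => (a i j : A)
  refine ⟨m, ?_, Mx.det, ?_⟩
  · haveI : Nontrivial W := nontrivial_of_ne ⟨x₀, hx₀W⟩ 0 fun h => hx₀ (congrArg (fun z : W => ((z : I) : A)) h)
    exact Module.finrank_pos
  have hD : Mx.det ∈ I ^ m := by
    rw [Matrix.det_apply]
    refine Ideal.sum_mem _ fun σ _ => ?_
    rw [Units.smul_def, zsmul_eq_mul]
    refine Ideal.mul_mem_left _ _ ?_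
    have := Ideal.prod_mem_prod (s := (Finset.univ : Finset (Fin m))) (I := fun _ => I) (x := fun i => Mx (σ i) i)
      fun i _ => (a (σ i) i).2
    rwa [Finset.prod_const, Finset.card_univ, Fintype.card_fin] at this
  refine le_antisymm (fun x hx => ?_) ((Ideal.span_singleton_le_iff_mem _).2 hD)
  let C : Ideal A := (Ideal.span {Mx.det}).colon (Ideal.span {x})
  suffices hC : C = ⊤ by
    have h1 : (1 : A) ∈ C := hC ▸ Submodule.mem_top
    have h2 := (Submodule.mem_colon.1 h1) x (Ideal.mem_span_singleton_self x)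
    rwa [one_smul] at h2
  by_contra hC
  obtain ⟨P, hP, hle⟩ := Ideal.exists_le_maximal C hC
  obtain ⟨g, hg⟩ := exists_point_ker (k := k) P
  obtain ⟨h, hgh⟩ := hinv g
  haveI hQ : (RingHom.ker h).IsPrime := RingHom.ker_isPrime h
  obtain ⟨fp, hfp, t, ht, hdvd⟩ := hI P hP.isPrime
  obtain ⟨fq, hfq, t', ht', hdvd'⟩ := hI (RingHom.ker h) hQ
  have hgt : g t ≠ 0 := fun e => ht (hg ▸ e)
  have hht : h t' ≠ 0 := ht'
  choose c hc using fun i j => hdvd (a i j) (a i j).2
  choose c' hc' using fun i j => hdvd' (a i j) (a i j).2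
  have hf0 : fp ≠ 0 := by
    intro e
    have h1 := hdvd x₀ x₀.2
    rw [e, zero_dvd_iff, mul_eq_zero] at h1
    exact hx₀ (h1.resolve_left fun e' => ht (e' ▸ P.zero_mem))
  have hf0' : fq ≠ 0 := by
    intro e
    have h1 := hdvd' x₀ x₀.2
    rw [e, zero_dvd_iff, mul_eq_zero] at h1
    exact hx₀ (h1.resolve_left fun e' => hht (e' ▸ map_zero h))
  -- the local value of the comultiplication
  have hbox : ∀ z : I ⊗[k] I, (fp ⊗ₜ[k] fq) ∣ (t ⊗ₜ[k] t') * jj (k := k) I z := fun z => by
    induction z using TensorProduct.induction_on with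
    | zero => simp
    | tmul p q =>
      obtain ⟨c₁, hc₁⟩ := hdvd p p.2
      obtain ⟨c₂, hc₂⟩ := hdvd' q q.2
      exact ⟨c₁ ⊗ₜ c₂, by rw [jj_tmul, Algebra.TensorProduct.tmul_mul_tmul, Algebra.TensorProduct.tmul_mul_tmul, hc₁, hc₂]⟩
    | add p q hp hq => rw [map_add, mul_add]; exact dvd_add hp hq
  choose q hq using fun y : I => hbox (dI y)
  have hff : fp ⊗ₜ[k] fq ≠ 0 := fun e => by
    have hcoord : ∀ {y : A}, y ≠ 0 → ∃ ξ : A →ₗ[k] k, ξ y ≠ 0 := fun {y} hy => by
      by_contra hne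
      push Not at hne
      exact hy ((Module.forall_dual_apply_eq_zero_iff k y).1 hne)
    obtain ⟨ξ, hξ⟩ := hcoord hf0
    have h1 := congrArg (fun z => TensorProduct.lid k A (LinearMap.rTensor A ξ z)) e
    simp at h1
    exact h1.elim hξ hf0'
  let gh : A ⊗[k] A →ₐ[k] k := Algebra.TensorProduct.lift g h (fun _ _ => .all _ _)
  have hqs : ∀ y z : I, Δ (y : A) * q z = Δ (z : A) * q y := fun y z => mul_left_cancel₀ hff (by
    linear_combination (norm := ring1) (t ⊗ₜ[k] t') * hcross y z - Δ (y : A) * hq z + Δ (z : A) * hq y)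
  obtain ⟨y₁, hy₁⟩ : ∃ y, gh (q y) ≠ 0 := by
    by_contra hne
    push Not at hne
    have hmem : fp ⊗ₜ[k] fq ∈ Ideal.span (Set.range fun y => jj (k := k) I (dI y)) := hspan ▸ tmul_mem_boxSq hfp hfq
    obtain ⟨r, hr, hr'⟩ : ∃ r, gh r = 0 ∧ (t ⊗ₜ[k] t') * (fp ⊗ₜ[k] fq) = (fp ⊗ₜ[k] fq) * r := by
      refine Submodule.span_induction (p := fun z _ => ∃ r, gh r = 0 ∧ (t ⊗ₜ[k] t') * z = (fp ⊗ₜ[k] fq) * r)
        ?_ ?_ ?_ ?_ hmem
      · rintro _ ⟨y, rfl⟩; exact ⟨q y, hne y, hq y⟩
      · exact ⟨0, map_zero _, by simp⟩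
      · rintro z z' - - ⟨r, hr, e⟩ ⟨r', hr', e'⟩
        exact ⟨r + r', by rw [map_add, hr, hr', add_zero], by rw [mul_add, mul_add, e, e']⟩
      · rintro s z - ⟨r, hr, e⟩
        exact ⟨s * r, by rw [map_mul, hr, MulZeroClass.mul_zero], by rw [smul_eq_mul, mul_left_comm, e, mul_left_comm]⟩
    have h3 : t ⊗ₜ[k] t' = r := mul_left_cancel₀ hff (by rw [← hr', mul_comm])
    rw [← h3] at hr
    simp [gh] at hr
    exact hr.elim hgt hht
  obtain ⟨x₁, hx₁⟩ := hεx₀
  let κ : k := gh (q x₁) / ε (x₁ : A)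
  have hψ : ∀ y : I, gh (q y) = κ * ε (y : A) := fun y => by
    have h1 := congrArg gh (hqs x₁ y)
    rw [map_mul, map_mul, hgh, hgh] at h1
    simp only [κ]
    rw [div_mul_eq_mul_div, eq_div_iff hx₁]
    linear_combination (norm := ring1) h1
  have hκ : κ ≠ 0 := fun e => hy₁ (by rw [hψ, e, MulZeroClass.zero_mul])
  let Cg : Matrix (Fin m) (Fin m) k := fun i j => g (c i j)
  let Ch : Matrix (Fin m) (Fin m) k := fun i j => h (c' i j)
  have hmat : Ch * Cg = κ • (1 : Matrix (Fin m) (Fin m) k) := by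
    refine Matrix.ext fun l j => ?_
    have h1 : q (a l j) = ∑ i, c i j ⊗ₜ[k] c' l i := mul_left_cancel₀ hff (by
      rw [← hq, hda, map_sum, Finset.mul_sum, Finset.mul_sum]
      refine Finset.sum_congr rfl fun i _ => ?_
      rw [jj_tmul, Algebra.TensorProduct.tmul_mul_tmul, Algebra.TensorProduct.tmul_mul_tmul, hc, hc'])
    have h2 := hψ (a l j)
    rw [h1, map_sum, hεa] at h2
    rw [Matrix.mul_apply, Matrix.smul_apply, smul_eq_mul, Matrix.one_apply]
    rw [show (if l = j then (1 : k) else 0) = if j = l then 1 else 0 by simp [eq_comm], ← h2]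
    exact Finset.sum_congr rfl fun i _ => by simp [gh, Cg, Ch, mul_comm]
  have hdet : Cg.det ≠ 0 := fun e => by
    have h1 := congrArg Matrix.det hmat
    rw [Matrix.det_mul, e, MulZeroClass.mul_zero, Matrix.det_smul, Matrix.det_one, _root_.mul_one] at h1
    exact pow_ne_zero _ hκ h1.symm
  let Cm : Matrix (Fin m) (Fin m) A := fun i j => c i j
  have hCm : g Cm.det = Cg.det := by
    rw [AlgHom.map_det]
    rfl
  have hDet : t ^ m * Mx.det = fp ^ m * Cm.det := by
    have : t • Mx = fp • Cm := Matrix.ext fun i j => hc i j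
    have h1 := congrArg Matrix.det this
    rwa [Matrix.det_smul, Matrix.det_smul, Fintype.card_fin] at h1
  obtain ⟨e, he⟩ := pow_dvd_mul_of_mem_pow hdvd m x hx
  have hmemC : Cm.det ∈ C := Submodule.mem_colon.2 fun y hy => by
    obtain ⟨r, rfl⟩ := Ideal.mem_span_singleton'.1 hy
    refine Ideal.mem_span_singleton'.2 ⟨r * e, ?_⟩
    rw [smul_eq_mul]
    refine mul_left_cancel₀ (pow_ne_zero m hf0) ?_
    linear_combination (norm := ring1) (x * r) * hDet - (r * Mx.det) * he
  have h0 : g Cm.det = 0 := by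
    have : Cm.det ∈ RingHom.ker g := hg ▸ hle hmemC
    exact this
  exact hdet (hCm ▸ h0)

end Groth.L19.PicFin
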