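import Groth.Agent.L19.PicFin.Modules
import Groth.Agent.L19.PicFin.Torsion
import Groth.Agent.L19.PicRat.Product
import Groth.Agent.L25.GeomIrred
import Groth.Prelude.Def_CoactBr
import Groth.Agent.L12.CurveFam.FibVA.Sections
import Groth.Agent.L02.RigidDesc.Unit

/-!
# Invertible modules on a connected affine group are torsion ideals
-/

set_option autoImplicit false
set_option linter.style.haveILetI false
set_option linter.unusedSectionVars false
set_option backward.isDefEq.respectTransparency.types false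
set_option backward.isDefEq.respectTransparency false
set_option maxHeartbeats 800000

universe u

open CategoryTheory CategoryTheory.Limits MonoidalCategory CartesianMonoidalCategory MonObj AlgebraicGeometry
open Groth.L18.Frame (rs ro rs_rs rs_self rs_smul IsFrame pull pull_smul pull_rs)
open Groth.L18.GenLoc (tens tens_rs tens_smul_left tens_smul_right isFrame_tens)
open Groth.L19.AlgGrpBasic (evR)
open scoped TensorProduct

noncomputable section

namespace Groth.L19.PicFin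

variable {k : Type u} [Field k] [IsAlgClosed k] (A : Type u) [CommRing A] [HopfAlgebra k A] [IsDomain A]
  [Algebra.FiniteType k A] [GrpObj (CoactBr.sp k A)]

theorem counit_left (a : A) : e1 (Bialgebra.counitAlgHom k A) (B := A) (Bialgebra.comulAlgHom k A a) = a := by
  have h : ∀ z : A ⊗[k] A, e1 (Bialgebra.counitAlgHom k A) (B := A) z =
      TensorProduct.lid k A (LinearMap.rTensor A (Coalgebra.counit (R := k) (A := A)) z) := fun z => by
    induction z using TensorProduct.induction_on with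
    | zero => simp
    | tmul x y => simp
    | add x y hx hy => simp only [map_add, hx, hy]
  rw [h]
  show TensorProduct.lid k A (LinearMap.rTensor A Coalgebra.counit (Coalgebra.comul (R := k) a)) = a
  rw [Coalgebra.rTensor_counit_comul, TensorProduct.lid_tmul, one_smul]

theorem counit_right (a : A) : evR (A := A) (Bialgebra.counitAlgHom k A) (Bialgebra.comulAlgHom k A a) = a := by
  have h : ∀ z : A ⊗[k] A, evR (A := A) (Bialgebra.counitAlgHom k A) z =
      TensorProduct.rid k A (LinearMap.lTensor A (Coalgebra.counit (R := k) (A := A)) z) := fun z => by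
    induction z using TensorProduct.induction_on with
    | zero => simp
    | tmul x y => simp [evR]
    | add x y hx hy => simp only [map_add, hx, hy]
  rw [h]
  show TensorProduct.rid k A (LinearMap.lTensor A Coalgebra.counit (Coalgebra.comul (R := k) a)) = a
  rw [Coalgebra.lTensor_counit_comul, TensorProduct.rid_tmul, one_smul]

theorem coassoc_apply' (a : A) : mapL (Bialgebra.comulAlgHom k A) (Bialgebra.comulAlgHom k A a) =
    mapR (Bialgebra.comulAlgHom k A) (Bialgebra.comulAlgHom k A a) := by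
  have h1 : ∀ z : A ⊗[k] A, mapL (Bialgebra.comulAlgHom k A) z =
      TensorProduct.assoc k A A A (LinearMap.rTensor A (Coalgebra.comul (R := k) (A := A)) z) := fun z => by
    induction z using TensorProduct.induction_on with
    | zero => simp
    | tmul x y =>
      show Algebra.TensorProduct.assoc k k k A A A (Bialgebra.comulAlgHom k A x ⊗ₜ y) = _
      rfl
    | add x y hx hy => simp only [map_add, hx, hy]
  have h2 : ∀ z : A ⊗[k] A, mapR (Bialgebra.comulAlgHom k A) z =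
      LinearMap.lTensor A (Coalgebra.comul (R := k) (A := A)) z := fun z => by
    induction z using TensorProduct.induction_on with
    | zero => simp
    | tmul x y => rfl
    | add x y hx hy => simp only [map_add, hx, hy]
  rw [h1, h2]
  exact Coalgebra.coassoc_apply a

theorem exists_inverse_point (g : A →ₐ[k] k) : ∃ h : A →ₐ[k] k, ∀ a,
    Algebra.TensorProduct.lift g h (fun _ _ => .all _ _) (Bialgebra.comulAlgHom k A a) =
      Bialgebra.counitAlgHom k A a := by
  refine ⟨g.comp (HopfAlgebra.antipodeAlgHom k A), fun a => ?_⟩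
  have h : ∀ z : A ⊗[k] A, Algebra.TensorProduct.lift g (g.comp (HopfAlgebra.antipodeAlgHom k A))
      (fun _ _ => .all _ _) z = g (LinearMap.mul' k A (LinearMap.lTensor A (HopfAlgebra.antipode k (A := A)) z)) := fun z => by
    induction z using TensorProduct.induction_on with
    | zero => simp
    | tmul x y => simp
    | add x y hx hy => simp only [map_add, hx, hy]
  rw [h]
  show g (LinearMap.mul' k A (LinearMap.lTensor A (HopfAlgebra.antipode k) (Coalgebra.comul (R := k) a))) = _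
  rw [HopfAlgebra.mul_antipode_lTensor_comul_apply, AlgHom.commutes]
  rfl

/-- Inverse image of global sections. -/
def pullTop {Z W : Scheme.{u}} (f : W ⟶ Z) (L : Z.Modules) (p : Γ(L, ⊤)) :
    Γ((Scheme.Modules.pullback f).obj L, ⊤) := pull f L ⊤ p

theorem pullTop_smul {Z W : Scheme.{u}} (f : W ⟶ Z) (L : Z.Modules) (c : Γ(Z, ⊤)) (p : Γ(L, ⊤)) :
    pullTop f L (c • p) = f.appTop c • pullTop f L p := pull_smul f L c p

theorem pullTop_add {Z W : Scheme.{u}} (f : W ⟶ Z) (L : Z.Modules) (p q : Γ(L, ⊤)) :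
    pullTop f L (p + q) = pullTop f L p + pullTop f L q := map_add _ p q

theorem pullTop_rs {Z W : Scheme.{u}} (f : W ⟶ Z) (L : Z.Modules) {O : Z.Opens} (p : Γ(L, ⊤)) :
    rs ((Scheme.Modules.pullback f).obj L) (le_top : f ⁻¹ᵁ O ≤ ⊤) (pullTop f L p) = pull f L O (rs L le_top p) :=
  pull_rs f L (le_top : O ≤ ⊤) p

/-- The ideal of an invertible module. -/
theorem exists_torsion_ideal [Smooth (CoactBr.sp k A).hom] [ConnectedSpace (CoactBr.sp k A).left]
    (hmul : ∀ (K : Type u) [CommRing K] [Algebra k K] (g h : A →ₐ[k] K), CoactBr.pt g * CoactBr.pt h =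
      CoactBr.pt ((Algebra.TensorProduct.lift g h fun _ _ => .all _ _).comp (Bialgebra.comulAlgHom k A)))
    (hrat : ∃ (U : (CoactBr.sp k A).left.Opens) (n : ℕ) (V : (𝔸(ULift.{u} (Fin n); Spec (CommRingCat.of k))).Opens)
      (e : (U : Scheme.{u}) ≅ (V : Scheme.{u})), (U : Set ↥(CoactBr.sp k A).left).Nonempty ∧
        e.hom ≫ V.ι ≫ (𝔸(ULift.{u} (Fin n); Spec (CommRingCat.of k)) ↘ Spec (CommRingCat.of k)) =
          U.ι ≫ (CoactBr.sp k A).hom)
    (L : (Spec (CommRingCat.of A)).Modules) (hL : PicF.IsInvertible L) :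
    ∃ φ : Γ(L, ⊤) →ₗ[Γ(Spec (CommRingCat.of A), ⊤)] Γ(Spec (CommRingCat.of A), ⊤), Function.Injective φ ∧
      ∃ I : Ideal A, I = Ideal.map (Scheme.ΓSpecIso (CommRingCat.of A)).commRingCatIsoToRingEquiv.toRingHom (LinearMap.range φ) ∧
        I ≠ ⊥ ∧ IsLP I ∧ ∃ m, 0 < m ∧ ∃ D, I ^ m = Ideal.span {D} := by
  classical
  let X : Scheme.{u} := Spec (CommRingCat.of A)
  let γ : Γ(X, ⊤) ≃+* A := (Scheme.ΓSpecIso (CommRingCat.of A)).commRingCatIsoToRingEquiv
  let ε := Bialgebra.counitAlgHom k A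
  let Δ := Bialgebra.comulAlgHom k A
  haveI : IsDomain (A ⊗[k] A) := Groth.L25.GeomIrred.isDomain_tensorProduct
  haveI : IsDomain (A ⊗[k] (A ⊗[k] A)) := Groth.L25.GeomIrred.isDomain_tensorProduct
  haveI : Algebra.FiniteType k (A ⊗[k] A) := Algebra.FiniteType.trans (R := k) (S := A) inferInstance inferInstance
  haveI : IsDomain Γ(X, ⊤) := MulEquiv.isDomain A γ.toMulEquiv
  haveI := Groth.L06.PicHomotopy.invertible_sections hL
  -- an embedding
  let Pε : Ideal Γ(X, ⊤) := RingHom.ker (ε.toRingHom.comp γ.toRingHom)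
  haveI : Pε.IsPrime := RingHom.ker_isPrime _
  obtain ⟨φ, p₀, hp₀⟩ := exists_eval_notMem (R := Γ(X, ⊤)) (M := Γ(L, ⊤)) Pε
  have hφ0 : φ p₀ ≠ 0 := fun h => hp₀ (h ▸ Pε.zero_mem)
  have hφ : Function.Injective φ := injective_of_ne_zero hφ0
  let I : Ideal A := Ideal.map γ.toRingHom (LinearMap.range φ)
  have hIval : ∀ p, γ (φ p) ∈ I := fun p => Ideal.mem_map_of_mem _ (LinearMap.mem_range_self φ p)
  let pre : I → Γ(L, ⊤) := fun x => ((Ideal.mem_map_iff_of_surjective γ.toRingHom γ.surjective).1 x.2).choose_spec.1.choose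
  have hpre : ∀ x : I, γ (φ (pre x)) = (x : A) := fun x => by
    have h := (Ideal.mem_map_iff_of_surjective γ.toRingHom γ.surjective).1 x.2
    exact (congrArg γ h.choose_spec.1.choose_spec).trans h.choose_spec.2
  have hILP : IsLP I := (isLP_range φ).map _
  refine ⟨φ, hφ, I, rfl, ?_, hILP, ?_⟩
  · intro h
    have h1 := hIval p₀
    rw [h, Submodule.mem_bot] at h1
    exact hφ0 (γ.injective (h1.trans (map_zero γ).symm))
  let a₀ : A := γ (φ p₀)
  have hεa₀ : ε a₀ ≠ 0 := hp₀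
  have ha₀ : a₀ ≠ 0 := fun h => hεa₀ (by rw [h, map_zero])
  -- the two projections and the multiplication
  let P := CoactBr.sp k A
  let T2 := CoactBr.sp k (A ⊗[k] A)
  let Y : Scheme.{u} := Spec (CommRingCat.of (A ⊗[k] A))
  let γ2 : Γ(Y, ⊤) ≃+* A ⊗[k] A := (Scheme.ΓSpecIso (CommRingCat.of (A ⊗[k] A))).commRingCatIsoToRingEquiv
  haveI : IsDomain Γ(Y, ⊤) := MulEquiv.isDomain (A ⊗[k] A) γ2.toMulEquiv
  have hnat : ∀ (f : A →ₐ[k] A ⊗[k] A) (c : Γ(X, ⊤)), γ2 ((CoactBr.pt f).left.appTop c) = f (γ c) := fun f c =>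
    congr($(Scheme.ΓSpecIso_naturality (CommRingCat.ofHom f.toRingHom)) c)
  let q1 : Y ⟶ X := (CoactBr.pt (iL (k := k) (A := A))).left
  let q2 : Y ⟶ X := (CoactBr.pt (iR (k := k) (A := A))).left
  let qm : Y ⟶ X := (CoactBr.pt Δ).left
  have hpts : CoactBr.pt (iL (k := k) (A := A)) * CoactBr.pt (iR (k := k) (A := A)) = CoactBr.pt Δ := by
    rw [hmul]
    congr 1
    refine AlgHom.ext fun a => ?_
    have hid : ∀ z : A ⊗[k] A, Algebra.TensorProduct.lift (iL (k := k) (A := A)) (iR (k := k) (A := A))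
        (fun _ _ => .all _ _) z = z := fun z => by
      induction z using TensorProduct.induction_on with
      | zero => simp
      | tmul x y => simp [iL, iR]
      | add x y hx hy => simp only [map_add, hx, hy]
    exact hid _
  -- primitivity
  letI := Groth.Agent.AV.InterPic.picLaw P.left
  letI := Groth.Agent.AV.InterPic.picLaw (P ⊗ P).left
  haveI : IsSeparated P.hom := inferInstanceAs (IsSeparated (Spec.map (CommRingCat.ofHom (algebraMap k A))))
  haveI : IsIntegral P.left := inferInstanceAs (IsIntegral (Spec (CommRingCat.of A)))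
  haveI : QuasiCompact P.hom := inferInstanceAs (QuasiCompact (Spec.map (CommRingCat.ofHom (algebraMap k A))))
  have hP : Pi1.IsNormalScheme P.left := Groth.L19.PicRat.isNormalScheme_of_smooth_field
  let c : PicLoc.PicSet P.left := PicGrp.cls L hL
  let hμ := Groth.Agent.AV.InterPic.pullMul μ[P].left
  let h₁ := Groth.Agent.AV.InterPic.pullMul (fst P P).left
  let h₂ := Groth.Agent.AV.InterPic.pullMul (snd P P).left
  obtain ⟨b₁, b₂, hb⟩ := Groth.L19.PicRat.exists_decomp hP hP hrat h₁ h₂ (PicGrp.pullHom μ[P].left hμ c)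
  have hb₁ : b₁ = c := by
    have h1 := congrArg (PicGrp.pullHom (Groth.L19.PicRat.secFst (X := P) η[P]).left (Groth.Agent.AV.InterPic.pullMul _)) hb
    have h3 : PicGrp.pullHom (Groth.L19.PicRat.secFst (X := P) η[P]).left (Groth.Agent.AV.InterPic.pullMul _)
        (PicGrp.pullHom (snd P P).left h₂ b₂) = 1 := Subtype.ext (by
      simp only [PicGrp.pullHom_apply_val]
      rw [Groth.L19.PicRat.pullCl_secFst_snd, PicGrp.one_val]
      rfl)
    rw [map_mul, h3, _root_.mul_one] at h1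
    have h2 := congrArg Subtype.val h1
    simp only [PicGrp.pullHom_apply_val] at h2
    rw [Groth.L19.PicRat.pullCl_secFst_fst, ← PicLoc.pullCl_comp, ← Over.comp_left,
      show Groth.L19.PicRat.secFst (X := P) η[P] ≫ μ[P] = 𝟙 P from by
        rw [← Hom.mul_def, ← Hom.one_def, _root_.mul_one], Over.id_left, PicLoc.pullCl_id] at h2
    exact Subtype.ext h2
  have hb₂ : b₂ = c := by
    have h1 := congrArg (PicGrp.pullHom (Groth.L19.PicRat.secSnd (Y := P) η[P]).left (Groth.Agent.AV.InterPic.pullMul _)) hb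
    have h3 : PicGrp.pullHom (Groth.L19.PicRat.secSnd (Y := P) η[P]).left (Groth.Agent.AV.InterPic.pullMul _)
        (PicGrp.pullHom (fst P P).left h₁ b₁) = 1 := Subtype.ext (by
      simp only [PicGrp.pullHom_apply_val]
      rw [Groth.L19.PicRat.pullCl_secSnd_fst, PicGrp.one_val]
      rfl)
    rw [map_mul, h3, _root_.one_mul] at h1
    have h2 := congrArg Subtype.val h1
    simp only [PicGrp.pullHom_apply_val] at h2
    rw [Groth.L19.PicRat.pullCl_secSnd_snd, ← PicLoc.pullCl_comp, ← Over.comp_left,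
      show Groth.L19.PicRat.secSnd (Y := P) η[P] ≫ μ[P] = 𝟙 P from by
        rw [← Hom.mul_def, ← Hom.one_def, _root_.one_mul], Over.id_left, PicLoc.pullCl_id] at h2
    exact Subtype.ext h2
  obtain ⟨θ⟩ : Nonempty ((Scheme.Modules.pullback qm).obj L ≅
      CohB1.tensorMod ((Scheme.Modules.pullback q1).obj L) ((Scheme.Modules.pullback q2).obj L)) := by
    letI := Groth.Agent.AV.InterPic.picLaw T2.left
    let ψ : T2 ⟶ P ⊗ P := lift (CoactBr.pt (iL (k := k) (A := A))) (CoactBr.pt (iR (k := k) (A := A)))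
    let hψ := Groth.Agent.AV.InterPic.pullMul ψ.left
    have h1 := congrArg (fun m => (PicGrp.pullHom ψ.left hψ m).1) hb.symm
    simp only [map_mul, PicGrp.mul_val, PicGrp.pullHom_apply_val, hb₁, hb₂, ← PicLoc.pullCl_comp, ← Over.comp_left] at h1
    have em : ψ ≫ μ[P] = CoactBr.pt Δ := (Hom.mul_def _ _).symm.trans hpts
    rw [em, lift_fst, lift_snd] at h1
    exact (PicGrp.cl_eq_cl_iff _ _).1 h1
  let T := CohB1.tensorMod ((Scheme.Modules.pullback q1).obj L) ((Scheme.Modules.pullback q2).obj L)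
  have hT : PicF.IsInvertible T :=
    Groth.L18.Ample.isInvertible_of_iso θ (Groth.L18.Ample.isInvertible_pullback qm hL)
  haveI := Groth.L06.PicHomotopy.invertible_sections hT
  let N : Γ(L, ⊤) → Γ(L, ⊤) → Γ(T, ⊤) := fun p q => tens _ _ ⊤ (pullTop q1 L p) (pullTop q2 L q)
  let Mμ : Γ(L, ⊤) → Γ(T, ⊤) := fun p => θ.hom.app ⊤ (pullTop qm L p)
  -- both families frame near every point
  have hNf : ∀ y : Y, ∃ (O : Y.Opens) (i : Γ(L, ⊤) × Γ(L, ⊤)), y ∈ O ∧ IsFrame T O (rs T le_top (N i.1 i.2)) := by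
    intro y
    obtain ⟨s, O₁, hy₁, hs⟩ := Groth.L06.PicHomotopy.exists_globalFrame hL (q1 y)
    obtain ⟨t, O₂, hy₂, ht⟩ := Groth.L06.PicHomotopy.exists_globalFrame hL (q2 y)
    refine ⟨q1 ⁻¹ᵁ O₁ ⊓ q2 ⁻¹ᵁ O₂, (s, t), ⟨hy₁, hy₂⟩, ?_⟩
    have h1 := (hs.pullback q1 L).mono (inf_le_left : q1 ⁻¹ᵁ O₁ ⊓ q2 ⁻¹ᵁ O₂ ≤ q1 ⁻¹ᵁ O₁)
    have h2 := (ht.pullback q2 L).mono (inf_le_right : q1 ⁻¹ᵁ O₁ ⊓ q2 ⁻¹ᵁ O₂ ≤ q2 ⁻¹ᵁ O₂)
    rw [← pullTop_rs q1 L, rs_rs] at h1
    rw [← pullTop_rs q2 L, rs_rs] at h2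
    have h3 := isFrame_tens h1 h2
    rw [← tens_rs] at h3
    exact h3
  have hMf : ∀ y : Y, ∃ (O : Y.Opens) (i : Γ(L, ⊤)), y ∈ O ∧ IsFrame T O (rs T le_top (Mμ i)) := by
    intro y
    obtain ⟨s, O₁, hy₁, hs⟩ := Groth.L06.PicHomotopy.exists_globalFrame hL (qm y)
    refine ⟨qm ⁻¹ᵁ O₁, s, hy₁, ?_⟩
    have h1 := Groth.L12.CurveFam.isFrame_map θ (hs.pullback qm L)
    rw [← pullTop_rs qm L, Groth.L02.RigidDesc.hom_rs] at h1
    exact h1
  have hsN := span_eq_top_of_frames hT (fun i : Γ(L, ⊤) × Γ(L, ⊤) => N i.1 i.2) hNf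
  have hsM := span_eq_top_of_frames hT Mμ hMf
  -- coordinates in the tensor square
  let Pz : Ideal Γ(Y, ⊤) := ⊥
  haveI : Pz.IsPrime := Ideal.isPrime_bot
  obtain ⟨Φ, t₀, ht₀⟩ := exists_eval_notMem (R := Γ(Y, ⊤)) (M := Γ(T, ⊤)) Pz
  have hΦ : Function.Injective Φ := injective_of_ne_zero (fun h => ht₀ (h ▸ Pz.zero_mem))
  let nN : Γ(L, ⊤) → Γ(L, ⊤) → A ⊗[k] A := fun p q => γ2 (Φ (N p q))
  let nM : Γ(L, ⊤) → A ⊗[k] A := fun p => γ2 (Φ (Mμ p))
  have hMsmul : ∀ (c : Γ(X, ⊤)) p, nM (c • p) = Δ (γ c) * nM p := fun c p => by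
    show γ2 (Φ (θ.hom.app ⊤ (pullTop qm L (c • p)))) = _
    rw [pullTop_smul,
      show θ.hom.app ⊤ (qm.appTop c • pullTop qm L p) = (qm.appTop c : Γ(Y, ⊤)) • θ.hom.app ⊤ (pullTop qm L p) from
        θ.hom.app_smul _ _, map_smul, smul_eq_mul, map_mul, show γ2 (qm.appTop c) = _ from hnat _ c]
  have hN₁ : ∀ (c : Γ(X, ⊤)) p q, nN (c • p) q = (γ c ⊗ₜ[k] 1) * nN p q := fun c p q => by
    show γ2 (Φ (tens _ _ ⊤ (pullTop q1 L (c • p)) _)) = _
    rw [pullTop_smul]
    erw [tens_smul_left]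
    rw [map_smul, smul_eq_mul, map_mul, show γ2 (q1.appTop c) = _ from hnat _ c]
    rfl
  have hN₂ : ∀ (c : Γ(X, ⊤)) p q, nN p (c • q) = ((1 : A) ⊗ₜ[k] γ c) * nN p q := fun c p q => by
    show γ2 (Φ (tens _ _ ⊤ _ (pullTop q2 L (c • q)))) = _
    rw [pullTop_smul]
    erw [tens_smul_right]
    rw [map_smul, smul_eq_mul, map_mul, show γ2 (q2.appTop c) = _ from hnat _ c]
    rfl
  let n₀ := nN p₀ p₀
  have hrel : ∀ p q, (a₀ ⊗ₜ[k] a₀) * nN p q = (γ (φ p) ⊗ₜ[k] γ (φ q)) * n₀ := by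
    intro p q
    have h1 := congrArg (nN · q) (apply_smul_comm φ p p₀)
    simp only [hN₁] at h1
    have h2 := congrArg (nN p₀ ·) (apply_smul_comm φ q p₀)
    simp only [hN₂] at h2
    rw [show (a₀ ⊗ₜ[k] a₀) = ((1 : A) ⊗ₜ[k] a₀) * (a₀ ⊗ₜ[k] (1 : A)) by simp,
      show γ (φ p) ⊗ₜ[k] γ (φ q) = (γ (φ p) ⊗ₜ[k] (1 : A)) * ((1 : A) ⊗ₜ[k] γ (φ q)) by simp,
      _root_.mul_assoc, _root_.mul_assoc, show n₀ = nN p₀ p₀ from rfl, h2, ← h1, _root_.mul_left_comm]
  let J : Ideal (A ⊗[k] A) := Ideal.map γ2.toRingHom (LinearMap.range Φ)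
  have hJ : ∀ {ιx : Type u} (s : ιx → Γ(T, ⊤)), Submodule.span Γ(Y, ⊤) (Set.range s) = ⊤ →
      Ideal.span (Set.range fun i => γ2 (Φ (s i))) = J := by
    intro ιx s hs
    have h1 : Ideal.span (Set.range fun i => Φ (s i)) = LinearMap.range Φ := by
      rw [LinearMap.range_eq_map, ← hs, Submodule.map_span, ← Set.range_comp]
      rfl
    show _ = Ideal.map γ2.toRingHom (LinearMap.range Φ)
    rw [← h1, Ideal.map_span, ← Set.range_comp]
    rfl
  have hJN : Ideal.span (Set.range fun i : Γ(L, ⊤) × Γ(L, ⊤) => nN i.1 i.2) = J := hJ _ hsN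
  have hJM : Ideal.span (Set.range nM) = J := hJ _ hsM
  have haa : a₀ ⊗ₜ[k] a₀ ≠ 0 := fun e => by
    obtain ⟨ξ, hξ⟩ : ∃ ξ : A →ₗ[k] k, ξ a₀ ≠ 0 := ⟨ε.toLinearMap, hεa₀⟩
    have h1 := congrArg (fun z => TensorProduct.lid k A (LinearMap.rTensor A ξ z)) e
    simp at h1
    exact h1.elim hξ ha₀
  have hJbox : Ideal.span {a₀ ⊗ₜ[k] a₀} * J = Ideal.span {n₀} * boxSq k I := by
    refine le_antisymm ?_ ?_
    · rw [← hJN, Ideal.span_mul_span', Ideal.span_le]
      rintro _ ⟨_, rfl, _, ⟨i, rfl⟩, rfl⟩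
      show (a₀ ⊗ₜ[k] a₀) * nN i.1 i.2 ∈ _
      rw [show (a₀ ⊗ₜ[k] a₀) * nN i.1 i.2 = n₀ * (γ (φ i.1) ⊗ₜ[k] γ (φ i.2)) from
        (hrel i.1 i.2).trans (_root_.mul_comm _ _)]
      exact Ideal.mul_mem_mul (Ideal.mem_span_singleton_self _) (tmul_mem_boxSq (hIval _) (hIval _))
    · rw [Ideal.span_singleton_mul_le_iff]
      intro z hz
      obtain ⟨w, rfl⟩ := boxSq_le_range z hz
      clear hz
      induction w using TensorProduct.induction_on with
      | zero => simp
      | add a b ha hb => rw [map_add, mul_add]; exact add_mem ha hb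
      | tmul x y =>
        rw [jj_tmul, ← hpre x, ← hpre y,
          show n₀ * (γ (φ (pre x)) ⊗ₜ[k] γ (φ (pre y))) = (a₀ ⊗ₜ[k] a₀) * nN (pre x) (pre y) from
            (_root_.mul_comm _ _).trans (hrel _ _).symm]
        exact Ideal.mul_mem_mul (Ideal.mem_span_singleton_self _) (hJN ▸ Ideal.subset_span ⟨(pre x, pre y), rfl⟩)
  have hn₀ : n₀ ≠ 0 := fun h0 => by
    rw [h0, Ideal.span_singleton_zero, Ideal.bot_mul, Ideal.mul_eq_bot, Ideal.span_singleton_eq_bot] at hJbox
    have hJ0 := hJbox.resolve_left haa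
    have h1 : Φ t₀ = 0 := by
      have h2 : γ2 (Φ t₀) ∈ J := Ideal.mem_map_of_mem _ (LinearMap.mem_range_self Φ t₀)
      rw [hJ0, Submodule.mem_bot] at h2
      exact γ2.injective (h2.trans (map_zero γ2).symm)
    exact ht₀ (h1 ▸ Pz.zero_mem)
  -- the semilinear map
  have hd : ∀ x : I, ∃ z, (a₀ ⊗ₜ[k] a₀) * nM (pre x) = n₀ * z := fun x => by
    have h1 : (a₀ ⊗ₜ[k] a₀) * nM (pre x) ∈ Ideal.span {a₀ ⊗ₜ[k] a₀} * J :=
      Ideal.mul_mem_mul (Ideal.mem_span_singleton_self _) (hJM ▸ Ideal.subset_span ⟨_, rfl⟩)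
    rw [hJbox, Ideal.mem_span_singleton_mul] at h1
    obtain ⟨z, -, hz⟩ := h1
    exact ⟨z, hz.symm⟩
  choose d hd using hd
  have pre_inj : ∀ {x : I} {p}, γ (φ p) = (x : A) → pre x = p := fun {x p} h =>
    hφ (γ.injective ((hpre x).trans h.symm))
  have hMadd : ∀ p q, nM (p + q) = nM p + nM q := fun p q => by
    show γ2 (Φ (θ.hom.app ⊤ (pullTop qm L (p + q)))) = _
    rw [pullTop_add,
      show θ.hom.app ⊤ (pullTop qm L p + pullTop qm L q) = θ.hom.app ⊤ (pullTop qm L p) + θ.hom.app ⊤ (pullTop qm L q) from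
        map_add _ _ _, map_add, map_add]
  have hdadd : ∀ x y : I, d (x + y) = d x + d y := fun x y => mul_left_cancel₀ hn₀ (by
    rw [mul_add, ← hd, ← hd, ← hd, ← mul_add, ← hMadd]
    rw [pre_inj (p := pre x + pre y) (by rw [map_add, map_add, hpre, hpre]; rfl)])
  have hdsmul : ∀ (a : A) (x : I), d (a • x) = Δ a * d x := fun a x => mul_left_cancel₀ hn₀ (by
    rw [← hd, _root_.mul_left_comm, ← hd]
    rw [pre_inj (p := γ.symm a • pre x)
      (by rw [map_smul, smul_eq_mul, map_mul, γ.apply_symm_apply, hpre]; rfl), hMsmul, γ.apply_symm_apply, _root_.mul_left_comm])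
  let dL : I →ₗ[k] A ⊗[k] A :=
    { toFun := d
      map_add' := hdadd
      map_smul' := fun c x => by
        rw [show c • x = algebraMap k A c • x from (algebraMap_smul A c x).symm, hdsmul, AlgHom.commutes,
          RingHom.id_apply, Algebra.smul_def] }
  have hspan : Ideal.span (Set.range dL) = boxSq k I := by
    refine Ideal.span_singleton_mul_right_injective hn₀ ?_
    show Ideal.span {n₀} * _ = Ideal.span {n₀} * _
    rw [← hJbox, ← hJM, Ideal.span_mul_span', Ideal.span_mul_span']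
    congr 1
    ext z
    simp only [Set.singleton_mul, Set.mem_image, Set.mem_range]
    constructor
    · rintro ⟨_, ⟨x, rfl⟩, rfl⟩
      exact ⟨_, ⟨pre x, rfl⟩, hd x⟩
    · rintro ⟨_, ⟨p, rfl⟩, rfl⟩
      refine ⟨_, ⟨(⟨γ (φ p), hIval p⟩ : I), rfl⟩, ?_⟩
      show n₀ * d _ = _
      rw [← hd, pre_inj (p := p) rfl]
  obtain ⟨d', hd's, hd'span, hd'1, hd'2⟩ := exists_normalised Δ ε (counit_left A) (counit_right A) hILP
    ⟨a₀, hIval p₀, hεa₀⟩ dL hdsmul hspan
  have hmem : ∀ x : I, ∃ w, jj (k := k) I w = d' x := fun x =>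
    boxSq_le_range _ (hd'span ▸ Ideal.subset_span ⟨x, rfl⟩)
  choose w hw using hmem
  let dI : I →ₗ[k] I ⊗[k] I :=
    { toFun := w
      map_add' := fun x y => injective_jj (by rw [map_add, hw, hw, hw, map_add])
      map_smul' := fun c x => injective_jj (by rw [map_smul, hw, hw, map_smul, RingHom.id_apply]) }
  have hdI : ∀ x, jj (k := k) I (dI x) = d' x := hw
  refine exists_pow_eq_span Δ ε dI (fun x y => ?_) (counit_left A) (counit_right A) (coassoc_apply' A) ?_
    (fun x => by rw [hdI]; exact hd'1 x) (fun x => by rw [hdI]; exact hd'2 x) (x₀ := ⟨a₀, hIval p₀⟩) ha₀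
    ⟨⟨a₀, hIval p₀⟩, hεa₀⟩ hILP (exists_inverse_point A)
  · rw [hdI, hdI, ← hd's, ← hd's]
    exact congrArg d' (Subtype.ext (mul_comm _ _))
  · rw [← hd'span]
    exact congrArg Ideal.span (congrArg Set.range (funext hdI))

end Groth.L19.PicFin

namespace Groth.L19.PicFin

theorem mem_range_smul {A : Type u} [CommRing A] (c : A) {N : Type*} [AddCommGroup N]
    [Module Γ(Spec (CommRingCat.of A), ⊤) N]
    (ψ : N →ₗ[Γ(Spec (CommRingCat.of A), ⊤)] Γ(Spec (CommRingCat.of A), ⊤)) (w : Γ(Spec (CommRingCat.of A), ⊤)) :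
    w ∈ LinearMap.range ((Scheme.ΓSpecIso (CommRingCat.of A)).commRingCatIsoToRingEquiv.symm c • ψ) ↔
      (Scheme.ΓSpecIso (CommRingCat.of A)).commRingCatIsoToRingEquiv w ∈ Ideal.span {c} *
        Ideal.map (Scheme.ΓSpecIso (CommRingCat.of A)).commRingCatIsoToRingEquiv.toRingHom (LinearMap.range ψ) := by
  let γ : Γ(Spec (CommRingCat.of A), ⊤) ≃+* A := (Scheme.ΓSpecIso (CommRingCat.of A)).commRingCatIsoToRingEquiv
  show w ∈ LinearMap.range (γ.symm c • ψ) ↔ γ w ∈ Ideal.span {c} * Ideal.map γ.toRingHom (LinearMap.range ψ)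
  rw [Ideal.mem_span_singleton_mul]
  constructor
  · rintro ⟨x, rfl⟩
    exact ⟨γ (ψ x), Ideal.mem_map_of_mem _ (LinearMap.mem_range_self ψ x), by simp⟩
  · rintro ⟨y, hy, e⟩
    obtain ⟨_, ⟨x, rfl⟩, rfl⟩ := (Ideal.mem_map_iff_of_surjective γ.toRingHom γ.surjective).1 hy
    exact ⟨x, γ.injective (by rw [← e]; simp)⟩

/-- Linked images of embeddings give isomorphic modules. -/
theorem exists_linearEquiv_of_linked {A : Type u} [CommRing A] [IsDomain A]
    {M M' : Type*} [AddCommGroup M] [Module Γ(Spec (CommRingCat.of A), ⊤) M] [AddCommGroup M']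
    [Module Γ(Spec (CommRingCat.of A), ⊤) M']
    (φ : M →ₗ[Γ(Spec (CommRingCat.of A), ⊤)] Γ(Spec (CommRingCat.of A), ⊤))
    (φ' : M' →ₗ[Γ(Spec (CommRingCat.of A), ⊤)] Γ(Spec (CommRingCat.of A), ⊤))
    (hφ : Function.Injective φ) (hφ' : Function.Injective φ')
    (h : Linked (Ideal.map (Scheme.ΓSpecIso (CommRingCat.of A)).commRingCatIsoToRingEquiv.toRingHom (LinearMap.range φ))
      (Ideal.map (Scheme.ΓSpecIso (CommRingCat.of A)).commRingCatIsoToRingEquiv.toRingHom (LinearMap.range φ'))) :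
    Nonempty (M ≃ₗ[Γ(Spec (CommRingCat.of A), ⊤)] M') := by
  let γ : Γ(Spec (CommRingCat.of A), ⊤) ≃+* A := (Scheme.ΓSpecIso (CommRingCat.of A)).commRingCatIsoToRingEquiv
  obtain ⟨a, b, ha, hb, h⟩ := h
  haveI : IsDomain Γ(Spec (CommRingCat.of A), ⊤) := MulEquiv.isDomain A γ.toMulEquiv
  let f := γ.symm a • φ
  let g := γ.symm b • φ'
  have hf : Function.Injective f := fun x y hxy => hφ (mul_left_cancel₀ (by simpa using ha) (show γ.symm a * φ x = γ.symm a * φ y from hxy))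
  have hg : Function.Injective g := fun x y hxy => hφ' (mul_left_cancel₀ (by simpa using hb) (show γ.symm b * φ' x = γ.symm b * φ' y from hxy))
  have hr : LinearMap.range f = LinearMap.range g := by
    ext w
    rw [mem_range_smul a φ w, mem_range_smul b φ' w, h]
  exact ⟨((LinearEquiv.ofInjective f hf).trans (LinearEquiv.ofEq _ _ hr)).trans (LinearEquiv.ofInjective g hg).symm⟩

end Groth.L19.PicFin
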