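import Groth.Agent.L10.HullFinite
import Groth.Agent.L23.CartierExt.Algebra
import Groth.Agent.S7125
import Mathlib.RingTheory.PicardGroup
import Mathlib.GroupTheory.FiniteAbelian.Basic

/-!
# Locally principal ideals of a normal domain with a factorial open
-/

set_option autoImplicit false
set_option linter.style.haveILetI false
set_option linter.unusedSectionVars false

universe u

noncomputable section

namespace Groth.L19.PicFin

variable {A : Type u} [CommRing A]

/-- Locally principal ideals. -/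
def IsLP (I : Ideal A) : Prop := ∀ P : Ideal A, P.IsPrime → ∃ f ∈ I, ∃ t ∉ P, ∀ x ∈ I, f ∣ t * x

theorem isLP_span_singleton (a : A) : IsLP (Ideal.span {a}) := fun P hP =>
  ⟨a, Ideal.mem_span_singleton_self a, 1, fun h => hP.ne_top ((Ideal.eq_top_iff_one _).2 h),
    fun x hx => by rw [one_mul]; exact Ideal.mem_span_singleton.1 hx⟩

theorem IsLP.mul {I J : Ideal A} (hI : IsLP I) (hJ : IsLP J) : IsLP (I * J) := by
  intro P hP
  obtain ⟨f, hf, t, ht, h⟩ := hI P hP
  obtain ⟨f', hf', t', ht', h'⟩ := hJ P hP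
  refine ⟨f * f', Ideal.mul_mem_mul hf hf', t * t', fun hh => (hP.mem_or_mem hh).elim ht ht', fun x hx => ?_⟩
  refine Submodule.mul_induction_on hx (fun a ha b hb => ?_) (fun a b ha hb => by rw [mul_add]; exact dvd_add ha hb)
  calc f * f' ∣ (t * a) * (t' * b) := mul_dvd_mul (h a ha) (h' b hb)
    _ = t * t' * (a * b) := by ring

variable [IsDomain A]

/-- Two nonzero ideals are linked when they differ by principal factors. -/
def Linked (I J : Ideal A) : Prop :=
  ∃ a b : A, a ≠ 0 ∧ b ≠ 0 ∧ Ideal.span {a} * I = Ideal.span {b} * J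

theorem Linked.symm {I J : Ideal A} (h : Linked I J) : Linked J I := by
  obtain ⟨a, b, ha, hb, h⟩ := h
  exact ⟨b, a, hb, ha, h.symm⟩

theorem Linked.trans {I J K : Ideal A} (h : Linked I J) (h' : Linked J K) : Linked I K := by
  obtain ⟨a, b, ha, hb, h⟩ := h
  obtain ⟨c, d, hc, hd, h'⟩ := h'
  refine ⟨c * a, b * d, mul_ne_zero hc ha, mul_ne_zero hb hd, ?_⟩
  rw [← Ideal.span_singleton_mul_span_singleton, ← Ideal.span_singleton_mul_span_singleton, mul_assoc, h, mul_assoc,
    ← h', mul_left_comm]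

variable [IsNoetherianRing A] [IsIntegrallyClosed A]

/-- Locally principal ideals of a normal domain are determined in height one. -/
theorem le_of_height_one {I J : Ideal A} (hJ : IsLP J) (hJ0 : J ≠ ⊥)
    (h : ∀ p : Ideal A, p.IsPrime → p.height = 1 → ∀ x ∈ I, ∃ s ∉ p, s * x ∈ J) : I ≤ J := by
  intro x hx
  let C : Ideal A := J.colon (Ideal.span {x})
  suffices hC : C = ⊤ by
    have h1 : (1 : A) ∈ C := hC ▸ Submodule.mem_top
    have h2 := (Submodule.mem_colon.1 h1) x (Ideal.mem_span_singleton_self x)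
    rwa [one_smul] at h2
  by_contra hC
  obtain ⟨P, hP, hle⟩ := Ideal.exists_le_maximal C hC
  obtain ⟨f, hf, t, ht, hdvd⟩ := hJ P hP.isPrime
  have hf0 : f ≠ 0 := by
    intro h0
    refine hJ0 (eq_bot_iff.2 fun y hy => ?_)
    have h1 := hdvd y hy
    rw [h0, zero_dvd_iff, mul_eq_zero] at h1
    exact (Submodule.mem_bot A).2 (h1.resolve_left fun h => ht (h ▸ P.zero_mem))
  let K := FractionRing A
  have hfK : algebraMap A K f ≠ 0 := fun h0 => hf0 (IsFractionRing.injective A K (by rw [h0, map_zero]))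
  obtain ⟨c, hc⟩ := Groth.L10.Hull.mem_range_of_height_one (algebraMap A K (t * x) / algebraMap A K f)
    fun p _ hp => by
      obtain ⟨s, hs, hsx⟩ := h p inferInstance hp x hx
      obtain ⟨d, hd⟩ := hdvd _ hsx
      exact ⟨s, hs, d, by
        rw [← mul_div_assoc, eq_div_iff hfK, ← map_mul, ← map_mul]
        congr 1
        linear_combination (norm := ring1) -hd⟩
  rw [eq_div_iff hfK, ← map_mul] at hc
  refine ht (hle (Submodule.mem_colon.2 fun y hy => ?_))
  obtain ⟨r, rfl⟩ := Ideal.mem_span_singleton'.1 hy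
  rw [smul_eq_mul, show t * (r * x) = r * (c * f) by rw [IsFractionRing.injective A K hc]; ring]
  exact J.mul_mem_left _ (J.mul_mem_left _ hf)

/-- The multiplicity of a nonzero ideal at a height one prime. -/
theorem existsUnique_mult {p : Ideal A} [p.IsPrime] (hp : p.height = 1) {I : Ideal A} (hI : I ≠ ⊥) :
    ∃! n : ℕ, I.map (algebraMap A (Localization.AtPrime p)) =
      IsLocalRing.maximalIdeal (Localization.AtPrime p) ^ n := by
  haveI := Groth.S7125aux.isDVR_of_height_eq_one p hp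
  obtain ⟨ϖ, hϖ⟩ := IsDiscreteValuationRing.exists_irreducible (Localization.AtPrime p)
  have hne : I.map (algebraMap A (Localization.AtPrime p)) ≠ ⊥ := fun h => hI (by
    rw [Ideal.map_eq_bot_iff_of_injective (IsLocalization.injective (Localization.AtPrime p)
      (Ideal.primeCompl_le_nonZeroDivisors p))] at h
    exact h)
  obtain ⟨n, hn⟩ := IsDiscreteValuationRing.ideal_eq_span_pow_irreducible hne hϖ
  have hn' : I.map (algebraMap A (Localization.AtPrime p)) =
      IsLocalRing.maximalIdeal (Localization.AtPrime p) ^ n := by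
    rw [hn, hϖ.maximalIdeal_eq, Ideal.span_singleton_pow]
  refine ⟨n, hn', fun m hm => ?_⟩
  have h2 := hm.symm.trans hn'
  exact (Ideal.pow_right_strictAnti _ (IsDiscreteValuationRing.not_a_field _)
    (IsLocalRing.maximalIdeal.isMaximal _).ne_top).injective h2

/-- The multiplicity of an ideal at a height one prime. -/
def mult (p : {q : Ideal A // q.IsPrime ∧ q.height = 1}) (I : Ideal A) : ℕ :=
  haveI := p.2.1
  if hI : I ≠ ⊥ then (existsUnique_mult p.2.2 hI).choose else 0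

theorem mult_spec (p : {q : Ideal A // q.IsPrime ∧ q.height = 1}) {I : Ideal A} (hI : I ≠ ⊥) :
    haveI := p.2.1
    I.map (algebraMap A (Localization.AtPrime p.1)) = IsLocalRing.maximalIdeal (Localization.AtPrime p.1) ^ mult p I := by
  haveI := p.2.1
  rw [mult, dif_pos hI]
  exact (existsUnique_mult p.2.2 hI).choose_spec.1

theorem mult_mul (p : {q : Ideal A // q.IsPrime ∧ q.height = 1}) {I J : Ideal A} (hI : I ≠ ⊥) (hJ : J ≠ ⊥) :
    mult p (I * J) = mult p I + mult p J := by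
  haveI := p.2.1
  have hIJ : I * J ≠ ⊥ := fun h => (Ideal.mul_eq_bot.1 h).elim hI hJ
  exact (existsUnique_mult p.2.2 hIJ).unique (mult_spec p hIJ)
    (by rw [Ideal.map_mul, mult_spec p hI, mult_spec p hJ, pow_add])

/-- Finitely many linking classes among torsion ideals, given a factorial open. -/
theorem exists_finite_classes {f : A} (hf : f ≠ 0) (hpic : Subsingleton (CommRing.Pic (Localization.Away f))) :
    ∃ F : Finset (Ideal A), ∀ I : Ideal A, I ≠ ⊥ → IsLP I → (∃ m, 0 < m ∧ ∃ D, I ^ m = Ideal.span {D}) →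
      ∃ J ∈ F, Linked I J := by
  classical
  let S := {q : Ideal A // q.IsPrime ∧ q.height = 1 ∧ f ∈ q}
  have hS : {q : Ideal A | q.IsPrime ∧ q.height = 1 ∧ f ∈ q} ⊆ (Ideal.span {f}).minimalPrimes := by
    rintro q ⟨hq, hh, hfq⟩
    obtain ⟨q', hq', hle⟩ := Ideal.exists_minimalPrimes_le (show Ideal.span {f} ≤ q from
      (Ideal.span_singleton_le_iff_mem _).2 hfq)
    haveI := hq'.1.1
    by_contra hne
    have hlt : q' < q := lt_of_le_of_ne hle fun e => hne (e ▸ hq')
    have h1 := Ideal.height_add_one_le_of_lt_of_isPrime hlt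
    rw [hh] at h1
    have h0 : q'.height = 0 := by
      by_contra h0
      exact absurd (le_trans (add_le_add (Order.one_le_iff_pos.2 (pos_iff_ne_zero.2 h0)) le_rfl) h1) (by decide)
    rw [Ideal.height_eq_zero_iff_eq_bot] at h0
    exact hf ((Submodule.mem_bot A).1 (h0 ▸ hq'.1.2 (Ideal.subset_span rfl)))
  haveI : Finite S := ((Ideal.finite_minimalPrimes_of_isNoetherianRing A _).subset hS).to_subtype
  let ν : Ideal A → (S → ℤ) := fun I q => (mult ⟨q.1, q.2.1, q.2.2.1⟩ I : ℤ)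
  have νmul : ∀ {I J : Ideal A}, I ≠ ⊥ → J ≠ ⊥ → ν (I * J) = ν I + ν J := fun hI hJ => funext fun q => by
    show ((mult _ (_ * _) : ℕ) : ℤ) = _
    rw [mult_mul _ hI hJ, Nat.cast_add]
    rfl
  let M : Ideal A → Prop := fun I => IsLP I ∧ ∃ n : ℕ, f ^ n ∈ I
  have M0 : ∀ {I}, M I → I ≠ ⊥ := fun {I} hI h => by
    obtain ⟨n, hn⟩ := hI.2
    rw [h, Submodule.mem_bot] at hn
    exact pow_ne_zero n hf hn
  have Mmul : ∀ {I J}, M I → M J → M (I * J) := fun hI hJ => by
    obtain ⟨n, hn⟩ := hI.2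
    obtain ⟨m, hm⟩ := hJ.2
    exact ⟨hI.1.mul hJ.1, n + m, pow_add f n m ▸ Ideal.mul_mem_mul hn hm⟩
  have Mpow : ∀ {I} (m : ℕ), M I → M (I ^ m) ∧ ν (I ^ m) = m • ν I := by
    intro I m hI
    induction m with
    | zero =>
      refine ⟨⟨by rw [pow_zero, Ideal.one_eq_top, ← Ideal.span_singleton_one]; exact isLP_span_singleton 1, 0, by simp⟩, ?_⟩
      have h1 := νmul (show (1 : Ideal A) ≠ ⊥ from one_ne_zero) (show (1 : Ideal A) ≠ ⊥ from one_ne_zero)
      rw [_root_.mul_one] at h1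
      rw [pow_zero, zero_smul]
      exact add_eq_left.1 h1.symm
    | succ m ih =>
      exact ⟨pow_succ I m ▸ Mmul ih.1 hI, by rw [pow_succ, νmul (M0 ih.1) (M0 hI), ih.2, succ_nsmul]⟩
  have Minj : ∀ {I J}, M I → M J → ν I = ν J → I = J := by
    have key : ∀ {I J}, M I → M J → ν I = ν J → I ≤ J := by
      intro I J hI hJ h
      refine le_of_height_one hJ.1 (M0 hJ) fun p hp hh x hx => ?_
      by_cases hfp : f ∈ p
      · have h2 := congrFun h ⟨p, hp, hh, hfp⟩
        have h3 : mult ⟨p, hp, hh⟩ I = mult ⟨p, hp, hh⟩ J := Int.ofNat_inj.1 h2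
        have h4 := mult_spec ⟨p, hp, hh⟩ (M0 hI)
        rw [h3, ← mult_spec ⟨p, hp, hh⟩ (M0 hJ)] at h4
        have h5 : algebraMap A (Localization.AtPrime p) x ∈ J.map (algebraMap A (Localization.AtPrime p)) :=
          h4 ▸ Ideal.mem_map_of_mem _ hx
        exact (IsLocalization.algebraMap_mem_map_algebraMap_iff p.primeCompl _ _ _).1 h5
      · obtain ⟨n, hn⟩ := hJ.2
        exact ⟨f ^ n, fun h' => hfp (hp.mem_of_pow_mem n h'), J.mul_mem_right _ hn⟩
    intro I J hI hJ h
    exact le_antisymm (key hI hJ h) (key hJ hI h.symm)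
  let P0 : Set (S → ℤ) := {v | ∃ a : A, M (Ideal.span {a}) ∧ ν (Ideal.span {a}) = v}
  let Λ : Submodule ℤ (S → ℤ) := Submodule.span ℤ P0
  let R := (S → ℤ) ⧸ Λ
  haveI : Finite (Submodule.torsion ℤ R) := by
    haveI : Module.IsTorsion ℤ (Submodule.torsion ℤ R) := Submodule.torsion_isTorsion
    haveI : Module.Finite ℤ (Submodule.torsion ℤ R) := Module.IsNoetherian.finite ℤ _
    exact Module.finite_of_fg_torsion _ ‹Module.IsTorsion ℤ (Submodule.torsion ℤ R)›
  let T : Set R := {r | r ∈ Submodule.torsion ℤ R ∧ ∃ I, M I ∧ Submodule.Quotient.mk (ν I) = r}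
  haveI : Finite T := Finite.of_injective (fun r => (⟨r.1, r.2.1⟩ : Submodule.torsion ℤ R))
    fun a b h => Subtype.ext (congrArg Subtype.val h :)
  choose g hgM hgν using fun r : T => r.2.2
  -- linked when congruent
  have hlink : ∀ {I J}, M I → M J → ν I - ν J ∈ Λ → Linked I J := by
    intro I J hI hJ h
    have key : ∀ v ∈ Λ, ∃ a b : A, M (Ideal.span {a}) ∧ M (Ideal.span {b}) ∧
        v = ν (Ideal.span {a}) - ν (Ideal.span {b}) := by
      intro v hv
      have h1 : M (Ideal.span {(1 : A)}) := ⟨isLP_span_singleton 1, 0, by simp⟩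
      refine Submodule.span_induction ?_ ⟨1, 1, h1, h1, by simp⟩ ?_ ?_ hv
      · rintro v ⟨a, ha, rfl⟩
        refine ⟨a, 1, ha, h1, ?_⟩
        have h2 := νmul (M0 h1) (M0 h1)
        rw [Ideal.span_singleton_mul_span_singleton, _root_.mul_one] at h2
        rw [add_eq_left.1 h2.symm, sub_zero]
      · rintro v w - - ⟨a, b, ha, hb, rfl⟩ ⟨c, d, hc, hd, rfl⟩
        refine ⟨a * c, b * d, ?_, ?_, ?_⟩
        · rw [← Ideal.span_singleton_mul_span_singleton]; exact Mmul ha hc
        · rw [← Ideal.span_singleton_mul_span_singleton]; exact Mmul hb hd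
        · rw [← Ideal.span_singleton_mul_span_singleton, ← Ideal.span_singleton_mul_span_singleton,
            νmul (M0 ha) (M0 hc), νmul (M0 hb) (M0 hd)]
          abel
      · rintro n v - ⟨a, b, ha, hb, rfl⟩
        have hpow : ∀ {c} (m : ℕ), M (Ideal.span {c}) → M (Ideal.span {c ^ m}) ∧
            ν (Ideal.span {c ^ m}) = m • ν (Ideal.span {c}) := fun m hc => by
          rw [← Ideal.span_singleton_pow]; exact Mpow m hc
        rcases n with m | m
        · exact ⟨a ^ m, b ^ m, (hpow m ha).1, (hpow m hb).1, by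
            rw [(hpow m ha).2, (hpow m hb).2, Int.ofNat_eq_natCast, natCast_zsmul, smul_sub]⟩
        · exact ⟨b ^ (m + 1), a ^ (m + 1), (hpow _ hb).1, (hpow _ ha).1, by
            rw [(hpow _ ha).2, (hpow _ hb).2, negSucc_zsmul, smul_sub, neg_sub]⟩
    obtain ⟨a, b, ha, hb, hab⟩ := key _ h
    have h2 : ν (Ideal.span {b} * I) = ν (Ideal.span {a} * J) := by
      rw [νmul (M0 hb) (M0 hI), νmul (M0 ha) (M0 hJ)]
      linear_combination (norm := abel) hab
    exact ⟨b, a, fun h0 => M0 hb (by simp [h0]), fun h0 => M0 ha (by simp [h0]), Minj (Mmul hb hI) (Mmul ha hJ) h2⟩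
  haveI : Fintype T := Fintype.ofFinite T
  refine ⟨Finset.univ.image g, fun I hI0 hILP htor => ?_⟩
  -- move into M
  haveI : IsDomain (Localization.Away f) := IsLocalization.isDomain_localization (powers_le_nonZeroDivisors_of_noZeroDivisors hf)
  haveI := hpic
  let B := Localization.Away f
  have hinj : Function.Injective (algebraMap A B) :=
    IsLocalization.injective B (powers_le_nonZeroDivisors_of_noZeroDivisors hf)
  obtain ⟨z, hz0, hz⟩ := Groth.L23.CartierExt.exists_span_singleton_of_pic (I.map (algebraMap A B))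
    (fun h => hI0 ((Ideal.map_eq_bot_iff_of_injective hinj).1 h)) fun Q hQ => by
      obtain ⟨a, ha, t, ht, hdvd⟩ := hILP (Q.comap (algebraMap A B)) (hQ.comap _)
      refine ⟨algebraMap A B a, Ideal.mem_map_of_mem _ ha, algebraMap A B t, ht, fun x hx => ?_⟩
      obtain ⟨⟨⟨y, hy⟩, ⟨s, hs⟩⟩, hxy⟩ := (IsLocalization.mem_map_algebraMap_iff (Submonoid.powers f) B).1 hx
      obtain ⟨d, hd⟩ := hdvd y hy
      obtain ⟨v, hv⟩ := IsLocalization.map_units B (⟨s, hs⟩ : Submonoid.powers f)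
      refine ⟨algebraMap A B d * ↑v⁻¹, ?_⟩
      rw [← mul_assoc, ← map_mul, ← hd, map_mul, mul_assoc]
      congr 1
      change x * algebraMap A B s = algebraMap A B y at hxy
      rw [← hxy, mul_assoc, ← hv, Units.mul_inv, _root_.mul_one]
  obtain ⟨⟨⟨g₁, hg₁⟩, ⟨s, hs⟩⟩, hg₁z⟩ := (IsLocalization.mem_map_algebraMap_iff (Submonoid.powers f) B).1
    (hz ▸ Ideal.mem_span_singleton_self z)
  change z * algebraMap A B s = algebraMap A B g₁ at hg₁z
  have hg₁0 : g₁ ≠ 0 := fun h0 => by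
    rw [h0, map_zero, mul_eq_zero] at hg₁z
    exact hg₁z.elim hz0 (IsLocalization.map_units B (⟨s, hs⟩ : Submonoid.powers f)).ne_zero
  have hbd : ∀ x ∈ I, ∃ n : ℕ, g₁ ∣ f ^ n * x := by
    intro x hx
    have h1 : algebraMap A B x ∈ Ideal.span {algebraMap A B g₁} := by
      rw [← hg₁z, Ideal.span_singleton_mul_right_unit (IsLocalization.map_units B (⟨s, hs⟩ : Submonoid.powers f)), ← hz]
      exact Ideal.mem_map_of_mem _ hx
    rw [← Set.image_singleton, ← Ideal.map_span, IsLocalization.algebraMap_mem_map_algebraMap_iff (Submonoid.powers f)] at h1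
    obtain ⟨_, ⟨n, rfl⟩, h2⟩ := h1
    exact ⟨n, Ideal.mem_span_singleton.1 h2⟩
  obtain ⟨G0, hG0⟩ := (IsNoetherian.noetherian I : I.FG)
  choose! N hN using hbd
  let m0 := G0.sup N
  have hbd' : ∀ x ∈ I, g₁ ∣ f ^ m0 * x := by
    intro x hx
    rw [← hG0] at hx
    refine Submodule.span_induction (fun y hy => ?_) ?_ (fun a b _ _ ha hb => ?_) (fun c a _ ha => ?_) hx
    · exact (hN y (hG0 ▸ Submodule.subset_span hy)).trans (mul_dvd_mul_right (pow_dvd_pow _ (Finset.le_sup hy)) y)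
    · rw [MulZeroClass.mul_zero]; exact dvd_zero _
    · rw [mul_add]; exact dvd_add ha hb
    · rw [smul_eq_mul, mul_left_comm]; exact ha.mul_left c
  let I' : Ideal A := (Ideal.span {f ^ m0} * I).colon (Ideal.span {g₁})
  have hI' : ∀ y, y ∈ I' ↔ ∃ x ∈ I, y * g₁ = f ^ m0 * x := fun y => by
    rw [Submodule.mem_colon]
    refine ⟨fun h => ?_, fun ⟨x, hx, h⟩ w hw => ?_⟩
    · obtain ⟨x, hx, h⟩ := Ideal.mem_span_singleton_mul.1 (h g₁ (Ideal.mem_span_singleton_self g₁))
      exact ⟨x, hx, h.symm⟩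
    · obtain ⟨r, rfl⟩ := Ideal.mem_span_singleton'.1 hw
      rw [smul_eq_mul, mul_left_comm, h]
      exact Ideal.mul_mem_left _ r (Ideal.mem_span_singleton_mul.2 ⟨x, hx, rfl⟩)
  have hM' : M I' := by
    refine ⟨fun P hP => ?_, m0, (hI' _).2 ⟨g₁, hg₁, rfl⟩⟩
    obtain ⟨a, ha, t, ht, hdvd⟩ := hILP P hP
    obtain ⟨c, hc⟩ := hbd' a ha
    refine ⟨c, (hI' c).2 ⟨a, ha, by rw [mul_comm c, ← hc]⟩, t, ht, fun y hy => ?_⟩
    obtain ⟨x, hx, hyx⟩ := (hI' y).1 hy
    obtain ⟨d, hd⟩ := hdvd x hx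
    refine ⟨d, mul_right_cancel₀ hg₁0 ?_⟩
    linear_combination (norm := ring1) t * hyx + f ^ m0 * hd + d * hc
  have hrel : Ideal.span {g₁} * I' = Ideal.span {f ^ m0} * I := by
    refine le_antisymm ?_ fun w hw => ?_
    · rw [Ideal.span_singleton_mul_le_iff]
      intro y hy
      obtain ⟨x, hx, h⟩ := (hI' y).1 hy
      rw [mul_comm g₁, h]
      exact Ideal.mem_span_singleton_mul.2 ⟨x, hx, rfl⟩
    · obtain ⟨x, hx, rfl⟩ := Ideal.mem_span_singleton_mul.1 hw
      obtain ⟨c, hc⟩ := hbd' x hx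
      exact Ideal.mem_span_singleton_mul.2 ⟨c, (hI' c).2 ⟨x, hx, by rw [mul_comm, ← hc]⟩, hc.symm⟩
  have hII' : Linked I I' := ⟨f ^ m0, g₁, pow_ne_zero _ hf, hg₁0, hrel.symm⟩
  -- torsion
  obtain ⟨m, hm, D, hD⟩ := htor
  have h1 : Ideal.span {g₁ ^ m} * I' ^ m = Ideal.span {(f ^ m0) ^ m * D} := by
    rw [← Ideal.span_singleton_pow, ← mul_pow, hrel, mul_pow, hD, Ideal.span_singleton_pow,
      Ideal.span_singleton_mul_span_singleton]
  obtain ⟨D', hD'⟩ : ∃ D', I' ^ m = Ideal.span {D'} := by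
    have h2 : (f ^ m0) ^ m * D ∈ Ideal.span {g₁ ^ m} * I' ^ m := h1 ▸ Ideal.mem_span_singleton_self _
    obtain ⟨D', hD', hDD⟩ := Ideal.mem_span_singleton_mul.1 h2
    refine ⟨D', Ideal.span_singleton_mul_right_injective (pow_ne_zero m hg₁0) ?_⟩
    show Ideal.span {g₁ ^ m} * _ = Ideal.span {g₁ ^ m} * _
    rw [h1, Ideal.span_singleton_mul_span_singleton, hDD]
  have hmem : Submodule.Quotient.mk (ν I') ∈ T := by
    refine ⟨(Submodule.mem_torsion_iff _).2 ⟨⟨(m : ℤ), mem_nonZeroDivisors_of_ne_zero (by exact_mod_cast hm.ne')⟩, ?_⟩,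
      I', hM', rfl⟩
    show (m : ℤ) • (Submodule.Quotient.mk (ν I') : R) = 0
    rw [← Submodule.Quotient.mk_smul, Submodule.Quotient.mk_eq_zero, natCast_zsmul, ← (Mpow m hM').2]
    exact Submodule.subset_span ⟨D', hD' ▸ (Mpow m hM').1, congrArg ν hD'.symm⟩
  exact ⟨g ⟨_, hmem⟩, Finset.mem_image_of_mem _ (Finset.mem_univ _),
    hII'.trans (hlink hM' (hgM _) ((Submodule.Quotient.eq _).1 (hgν ⟨_, hmem⟩).symm))⟩

end Groth.L19.PicFin
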