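import Groth.Agent.L19.PicFin.Ratio
import Groth.Agent.L19.AlgGrpBasic.RosenlichtUnits
import Mathlib.LinearAlgebra.Matrix.NonsingularInverse
import Mathlib.RingTheory.Flat.Basic

/-!
# Ideals with a semilinear comultiplication are torsion

Let `A` be the coordinate ring of a connected group, `I` a locally principal ideal and `d : I → A ⊗ A` a map semilinear
over the comultiplication whose values generate the ideal `I ⊠ I`. After normalisation `I` becomes a coalgebra, and the
matrix of a finite dimensional left coideal generates a power of `I`.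
-/

set_option autoImplicit false
set_option linter.style.haveILetI false
set_option linter.unusedSectionVars false

universe u

open scoped TensorProduct
open Groth.L19.AlgGrpBasic (evR evL eq_one_of_axes)

noncomputable section

namespace Groth.L19.PicFin

variable {k A : Type u} [Field k] [IsAlgClosed k] [CommRing A] [Algebra k A] [Algebra.FiniteType k A] [IsDomain A]
  [IsDomain (A ⊗[k] A)] [IsDomain (A ⊗[k] (A ⊗[k] A))]

/-- The first inclusion. -/
abbrev iL : A →ₐ[k] A ⊗[k] A := Algebra.TensorProduct.includeLeft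

/-- The second inclusion. -/
abbrev iR : A →ₐ[k] A ⊗[k] A := Algebra.TensorProduct.includeRight

/-- The external square of an ideal. -/
abbrev boxSq (k : Type u) [Field k] {A : Type u} [CommRing A] [Algebra k A] (I : Ideal A) : Ideal (A ⊗[k] A) :=
  I.map (iL (k := k)).toRingHom * I.map (iR (k := k)).toRingHom

/-- Evaluation of the first factor. -/
abbrev e1 (ε : A →ₐ[k] k) {B : Type u} [CommRing B] [Algebra k B] : A ⊗[k] B →ₐ[k] B :=
  (Algebra.TensorProduct.lid k B).toAlgHom.comp (Algebra.TensorProduct.map ε (AlgHom.id k B))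

theorem tmul_mem_boxSq {I : Ideal A} {a b : A} (ha : a ∈ I) (hb : b ∈ I) : a ⊗ₜ[k] b ∈ boxSq k I := by
  have : a ⊗ₜ[k] b = iL (k := k) a * iR (k := k) b := by simp [iL, iR]
  rw [this]
  exact Ideal.mul_mem_mul (Ideal.mem_map_of_mem _ ha) (Ideal.mem_map_of_mem _ hb)

theorem map_e1_boxSq {I : Ideal A} {ε : A →ₐ[k] k} (hne : ∃ x ∈ I, ε x ≠ 0) :
    (boxSq k I).map (e1 ε (B := A)).toRingHom = I := by
  rw [Ideal.map_mul, Ideal.map_map, Ideal.map_map]
  obtain ⟨x, hx, hεx⟩ := hne
  have htop : I.map ((e1 ε (B := A)).toRingHom.comp (iL (k := k)).toRingHom) = ⊤ := by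
    refine Ideal.eq_top_of_isUnit_mem _ (Ideal.mem_map_of_mem _ hx) ?_
    show IsUnit (e1 ε (B := A) (x ⊗ₜ[k] 1))
    rw [show e1 ε (B := A) (x ⊗ₜ[k] 1) = algebraMap k A (ε x) by simp [Algebra.smul_def]]
    exact (hεx.isUnit).map (algebraMap k A)
  have hid : ((e1 ε (B := A)).toRingHom.comp (iR (k := k)).toRingHom) = RingHom.id A := RingHom.ext fun y => by
    show e1 ε (B := A) (1 ⊗ₜ[k] y) = y
    simp
  rw [htop, hid, Ideal.map_id, Ideal.top_mul]

theorem map_evR_boxSq {I : Ideal A} {ε : A →ₐ[k] k} (hne : ∃ x ∈ I, ε x ≠ 0) :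
    (boxSq k I).map (evR (A := A) ε).toRingHom = I := by
  rw [Ideal.map_mul, Ideal.map_map, Ideal.map_map]
  obtain ⟨x, hx, hεx⟩ := hne
  have htop : I.map ((evR (A := A) ε).toRingHom.comp (iR (k := k)).toRingHom) = ⊤ := by
    refine Ideal.eq_top_of_isUnit_mem _ (Ideal.mem_map_of_mem _ hx) ?_
    show IsUnit (evR (A := A) ε (1 ⊗ₜ[k] x))
    rw [show evR (A := A) ε (1 ⊗ₜ[k] x) = algebraMap k A (ε x) by simp [evR, Algebra.smul_def]]
    exact (hεx.isUnit).map (algebraMap k A)
  have hid : ((evR (A := A) ε).toRingHom.comp (iL (k := k)).toRingHom) = RingHom.id A := RingHom.ext fun y => by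
    show evR (A := A) ε (y ⊗ₜ[k] 1) = y
    simp [evR]
  rw [htop, hid, Ideal.map_id, Ideal.mul_top]

variable (Δ : A →ₐ[k] A ⊗[k] A) (ε : A →ₐ[k] k)

/-- A semilinear map can be normalised to be counital. -/
theorem exists_normalised (hl : ∀ a, e1 ε (Δ a) = a) (hr : ∀ a, evR ε (Δ a) = a) {I : Ideal A} (hI : IsLP I)
    (hne : ∃ x ∈ I, ε x ≠ 0) (d : I →ₗ[k] A ⊗[k] A) (hd : ∀ (a : A) (x : I), d (a • x) = Δ a * d x)
    (hspan : Ideal.span (Set.range d) = boxSq k I) :
    ∃ d' : I →ₗ[k] A ⊗[k] A, (∀ (a : A) (x : I), d' (a • x) = Δ a * d' x) ∧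
      Ideal.span (Set.range d') = boxSq k I ∧ (∀ x : I, e1 ε (d' x) = x) ∧ ∀ x : I, evR ε (d' x) = x := by
  have hI0 : I ≠ ⊥ := fun h => by
    obtain ⟨x, hx, hx'⟩ := hne
    rw [h, Submodule.mem_bot] at hx
    exact hx' (by rw [hx, map_zero])
  have hid : Ideal.span (Set.range fun x : I => (x : A)) = I :=
    (congrArg Ideal.span Subtype.range_coe).trans I.span_eq
  have hcross : ∀ x y : I, Δ (x : A) * d y = Δ (y : A) * d x := fun x y => by
    rw [← hd, ← hd]
    exact congrArg d (Subtype.ext (mul_comm _ _))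
  obtain ⟨v₁, hv₁⟩ : ∃ v : Aˣ, ∀ x : I, e1 ε (d x) = v * x := by
    refine exists_unit_ratio (fun x : I => (x : A)) (fun x : I => e1 ε (d x)) hI0 hI hid ?_ fun x y => ?_
    · rw [Set.range_comp' (e1 ε (B := A)) d]
      exact ((Ideal.map_span (e1 ε (B := A)).toRingHom _).symm.trans
        (congrArg (Ideal.map (e1 ε (B := A)).toRingHom) hspan)).trans (map_e1_boxSq hne)
    · have := congrArg (e1 ε (B := A)) (hcross x y)
      rwa [map_mul, map_mul, hl, hl] at this
  obtain ⟨v₂, hv₂⟩ : ∃ v : Aˣ, ∀ x : I, evR ε (d x) = v * x := by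
    refine exists_unit_ratio (fun x : I => (x : A)) (fun x : I => evR ε (d x)) hI0 hI hid ?_ fun x y => ?_
    · rw [Set.range_comp' (evR (A := A) ε) d]
      exact ((Ideal.map_span (evR (A := A) ε).toRingHom _).symm.trans
        (congrArg (Ideal.map (evR (A := A) ε).toRingHom) hspan)).trans (map_evR_boxSq hne)
    · have := congrArg (evR (A := A) ε) (hcross x y)
      rwa [map_mul, map_mul, hr, hr] at this
  have hεε : ∀ z : A ⊗[k] A, ε (e1 ε z) = ε (evR ε z) := fun z => by
    induction z using TensorProduct.induction_on with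
    | zero => simp
    | tmul a b => simp [evR, mul_comm]
    | add z w hz hw => simp only [map_add, hz, hw]
  have hev : ε (v₁ : A) = ε (v₂ : A) := by
    obtain ⟨x, hx, hεx⟩ := hne
    have := hεε (d ⟨x, hx⟩)
    rw [hv₁, hv₂, map_mul, map_mul] at this
    exact mul_right_cancel₀ hεx this
  let w : A ⊗[k] A := algebraMap k (A ⊗[k] A) (ε (v₂ : A)) * ((↑v₂⁻¹ : A) ⊗ₜ[k] (↑v₁⁻¹ : A))
  have hvu : IsUnit (ε (v₂ : A)) := v₂.isUnit.map ε
  have hw : IsUnit w := by
    refine (hvu.map _).mul ?_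
    rw [show (↑v₂⁻¹ : A) ⊗ₜ[k] (↑v₁⁻¹ : A) = iL (k := k) (↑v₂⁻¹ : A) * iR (k := k) (↑v₁⁻¹ : A) by simp [iL, iR]]
    exact ((v₂⁻¹).isUnit.map _).mul ((v₁⁻¹).isUnit.map _)
  refine ⟨(LinearMap.mulLeft k w).comp d, fun a x => ?_, ?_, fun x => ?_, fun x => ?_⟩
  · show w * d (a • x) = Δ a * (w * d x)
    rw [hd, mul_left_comm]
  · rw [show Set.range ((LinearMap.mulLeft k w).comp d) = (fun z => w * z) '' Set.range d from Set.range_comp (fun z => w * z) d,
      ← hspan]
    refine le_antisymm (Ideal.span_le.2 ?_) (Ideal.span_le.2 ?_)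
    · rintro _ ⟨z, hz, rfl⟩
      exact Ideal.mul_mem_left _ _ (Ideal.subset_span hz)
    · intro z hz
      obtain ⟨w', hw'⟩ := hw.exists_left_inv
      have h1 : w' * (w * z) ∈ Ideal.span ((fun z => w * z) '' Set.range d) :=
        Ideal.mul_mem_left _ _ (Ideal.subset_span ⟨z, hz, rfl⟩)
      rwa [← mul_assoc, hw', _root_.one_mul] at h1
  · show e1 ε (w * d x) = x
    rw [map_mul, hv₁]
    have h1 : e1 ε w = algebraMap k A (ε (v₂ : A) * ε (↑v₂⁻¹ : A)) * (↑v₁⁻¹ : A) := by
      simp [w, Algebra.smul_def, mul_assoc]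
    rw [h1, ← map_mul ε, Units.mul_inv, map_one, map_one, _root_.one_mul, Units.inv_mul_cancel_left]
  · show evR ε (w * d x) = x
    rw [map_mul, hv₂]
    have h1 : evR ε w = algebraMap k A (ε (v₂ : A) * ε (↑v₁⁻¹ : A)) * (↑v₂⁻¹ : A) := by
      simp [w, evR, Algebra.smul_def, mul_assoc]
      ring
    rw [h1, ← hev, ← map_mul ε, Units.mul_inv, map_one, map_one, _root_.one_mul, Units.inv_mul_cancel_left]

variable {I : Ideal A} (dI : I →ₗ[k] I ⊗[k] I)

/-- The inclusion of the external square. -/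
def jj (I : Ideal A) : I ⊗[k] I →ₗ[k] A ⊗[k] A :=
  TensorProduct.map (I.restrictScalars k).subtype (I.restrictScalars k).subtype

theorem jj_tmul (p q : I) : jj (k := k) I (p ⊗ₜ q) = (p : A) ⊗ₜ[k] (q : A) := rfl

theorem injective_jj : Function.Injective (jj (k := k) I) := by
  rw [jj, ← LinearMap.lTensor_comp_rTensor, LinearMap.coe_comp]
  exact (Module.Flat.lTensor_preserves_injective_linearMap _ Subtype.val_injective).comp
    (Module.Flat.rTensor_preserves_injective_linearMap _ Subtype.val_injective)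

theorem boxSq_le_range : ∀ z ∈ boxSq k I, ∃ w : I ⊗[k] I, jj (k := k) I w = z := by
  have hsmul : ∀ (q : A ⊗[k] A) (z : A ⊗[k] A), z ∈ Set.range (jj (k := k) I) → q * z ∈ Set.range (jj (k := k) I) := by
    rintro q _ ⟨w, rfl⟩
    induction w using TensorProduct.induction_on with
    | zero => exact ⟨0, by simp⟩
    | tmul x y =>
      induction q using TensorProduct.induction_on with
      | zero => exact ⟨0, by simp⟩
      | tmul a b => exact ⟨(a • x) ⊗ₜ (b • y), by
        rw [jj_tmul, jj_tmul, Algebra.TensorProduct.tmul_mul_tmul]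
        rfl⟩
      | add q q' hq hq' =>
        obtain ⟨w, hw⟩ := hq
        obtain ⟨w', hw'⟩ := hq'
        exact ⟨w + w', by rw [map_add, hw, hw', add_mul]⟩
    | add w w' hw hw' =>
      obtain ⟨v, hv⟩ := hw
      obtain ⟨v', hv'⟩ := hw'
      exact ⟨v + v', by rw [map_add, hv, hv', map_add, mul_add]⟩
  intro z hz
  rw [boxSq, Ideal.map, Ideal.map, Ideal.span_mul_span'] at hz
  refine Submodule.span_induction ?_ ⟨0, map_zero _⟩ ?_ ?_ hz
  · rintro _ ⟨_, ⟨a, ha, rfl⟩, _, ⟨b, hb, rfl⟩, rfl⟩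
    exact ⟨(⟨a, ha⟩ : I) ⊗ₜ ⟨b, hb⟩, by simp [jj_tmul, iL, iR]⟩
  · rintro a b - - ⟨w, hw⟩ ⟨w', hw'⟩
    exact ⟨w + w', by rw [map_add, hw, hw']⟩
  · rintro q a - ha
    exact hsmul q a ha

/-- The inclusion of the external cube. -/
def jjj (I : Ideal A) : I ⊗[k] (I ⊗[k] I) →ₗ[k] A ⊗[k] (A ⊗[k] A) :=
  TensorProduct.map (I.restrictScalars k).subtype (jj (k := k) I)

theorem jjj_tmul (p : I) (z : I ⊗[k] I) : jjj (k := k) I (p ⊗ₜ z) = (p : A) ⊗ₜ[k] jj (k := k) I z := rfl

theorem injective_jjj : Function.Injective (jjj (k := k) I) := by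
  rw [jjj, ← LinearMap.lTensor_comp_rTensor, LinearMap.coe_comp]
  exact (Module.Flat.lTensor_preserves_injective_linearMap _ injective_jj).comp
    (Module.Flat.rTensor_preserves_injective_linearMap _ Subtype.val_injective)

end Groth.L19.PicFin
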