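import Groth.Agent.L19.PicFin.Ratio
import Groth.Agent.L06.PicHomotopy.Affine
import Mathlib.AlgebraicGeometry.Modules.Tilde

/-!
# Invertible modules on affine schemes as ideals
-/

set_option autoImplicit false
set_option linter.style.haveILetI false
set_option linter.unusedSectionVars false
set_option backward.isDefEq.respectTransparency.types false
set_option backward.isDefEq.respectTransparency false

universe u

open CategoryTheory AlgebraicGeometry TopologicalSpace Opposite
open Groth.L18.Frame (rs ro rs_rs rs_self rs_smul IsFrame)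
open Groth.L06.PicHomotopy (exists_globalFrame invertible_sections)

noncomputable section

namespace Groth.L19.PicFin

section Invertible

variable {R : Type*} [CommRing R] {M : Type*} [AddCommGroup M] [Module R M] [Module.Invertible R M]

/-- In an invertible module a functional exchanges two elements. -/
theorem apply_smul_comm (φ : M →ₗ[R] R) (x y : M) : φ x • y = φ y • x := by
  have h := congrArg (fun z => TensorProduct.lid R M (TensorProduct.map φ LinearMap.id z))
    (Module.Invertible.tmul_comm (R := R) (M := M) (m₁ := x) (m₂ := y))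
  simpa using h

/-- The values of functionals at elements generate the unit ideal. -/
theorem span_range_eval_eq_top : Ideal.span (Set.range fun z : (M →ₗ[R] R) × M => z.1 z.2) = ⊤ := by
  rw [Ideal.eq_top_iff_one]
  obtain ⟨t, ht⟩ := (Module.Invertible.linearEquiv R M).surjective 1
  rw [← ht]
  clear ht
  induction t using TensorProduct.induction_on with
  | zero => rw [map_zero]; exact zero_mem _
  | tmul f m => exact Ideal.subset_span ⟨(f, m), rfl⟩
  | add a b ha hb => rw [map_add]; exact add_mem ha hb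

theorem exists_eval_notMem (P : Ideal R) [hP : P.IsPrime] : ∃ (ψ : M →ₗ[R] R) (m : M), ψ m ∉ P := by
  by_contra h
  push Not at h
  refine hP.ne_top (top_le_iff.1 (span_range_eval_eq_top (R := R) (M := M) ▸ Ideal.span_le.2 ?_))
  rintro _ ⟨⟨ψ, m⟩, rfl⟩
  exact h ψ m

variable [IsDomain R]

theorem injective_of_ne_zero {φ : M →ₗ[R] R} {m : M} (hφ : φ m ≠ 0) : Function.Injective φ := by
  refine (injective_iff_map_eq_zero φ).2 fun x hx => ?_
  have h1 := apply_smul_comm φ x m
  rw [hx, zero_smul] at h1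
  obtain ⟨t, ht⟩ := (Module.Invertible.linearEquiv R M).surjective 1
  have h2 : ∀ ψ : M →ₗ[R] R, ψ x = 0 := fun ψ => by
    have h3 := congrArg ψ h1
    rw [map_zero, map_smul, smul_eq_mul] at h3
    exact (mul_eq_zero.1 h3.symm).resolve_left hφ
  exact (Module.forall_dual_apply_eq_zero_iff R x).1 h2

theorem isLP_range (φ : M →ₗ[R] R) : IsLP (LinearMap.range φ) := by
  intro P hP
  obtain ⟨ψ, m, hm⟩ := exists_eval_notMem (R := R) (M := M) P
  refine ⟨φ m, LinearMap.mem_range_self φ m, ψ m, hm, ?_⟩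
  rintro _ ⟨y, rfl⟩
  refine ⟨ψ y, ?_⟩
  have h := congrArg φ (apply_smul_comm ψ m y)
  rw [map_smul, map_smul, smul_eq_mul, smul_eq_mul] at h
  rw [h, mul_comm]

end Invertible

variable {X : Scheme.{u}} [IsAffine X] {L : X.Modules}

/-- A family of sections framing near every point spans the sections. -/
theorem span_eq_top_of_frames (hL : PicF.IsInvertible L) {ι : Type*} (s : ι → Γ(L, ⊤))
    (hs : ∀ x : X, ∃ (O : X.Opens) (i : ι), x ∈ O ∧ IsFrame L O (rs L le_top (s i))) :
    Submodule.span Γ(X, ⊤) (Set.range s) = ⊤ := by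
  haveI := invertible_sections hL
  let J : Ideal Γ(X, ⊤) := Ideal.span (Set.range fun z : (Γ(L, ⊤) →ₗ[Γ(X, ⊤)] Γ(X, ⊤)) × ι => z.1 (s z.2))
  suffices hJ : J = ⊤ by
    refine eq_top_iff.2 fun y _ => ?_
    have h1 : (1 : Γ(X, ⊤)) ∈ J := hJ ▸ Submodule.mem_top
    have key : ∀ c ∈ J, c • y ∈ Submodule.span Γ(X, ⊤) (Set.range s) := by
      intro c hc
      refine Submodule.span_induction ?_ ?_ ?_ ?_ hc
      · rintro _ ⟨⟨ψ, i⟩, rfl⟩
        rw [show ψ (s i) • y = ψ y • s i from apply_smul_comm ψ _ _]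
        exact Submodule.smul_mem _ _ (Submodule.subset_span ⟨i, rfl⟩)
      · rw [zero_smul]; exact zero_mem _
      · intro a b _ _ ha hb; rw [add_smul]; exact add_mem ha hb
      · intro a b _ hb; rw [smul_eq_mul, mul_smul]; exact Submodule.smul_mem _ _ hb
    simpa using key 1 h1
  by_contra hJ
  obtain ⟨P, hP, hle⟩ := Ideal.exists_le_maximal J hJ
  haveI := hP.isPrime
  obtain ⟨ψ, m, hm⟩ := exists_eval_notMem (R := Γ(X, ⊤)) (M := Γ(L, ⊤)) P
  let z : X := (isAffineOpen_top X).fromSpec ⟨P, hP.isPrime⟩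
  have hbasic : ∀ c : Γ(X, ⊤), z ∈ X.basicOpen c ↔ c ∉ P := fun c => by
    rw [show z ∈ X.basicOpen c ↔ (⟨P, hP.isPrime⟩ : PrimeSpectrum Γ(X, ⊤)) ∈
      (isAffineOpen_top X).fromSpec ⁻¹ᵁ X.basicOpen c from Iff.rfl, (isAffineOpen_top X).fromSpec_preimage_basicOpen]
    rfl
  obtain ⟨O, i, hzO, hO⟩ := hs z
  obtain ⟨c, hc⟩ := hO.exists_coeff le_rfl (rs L (le_top : O ≤ ⊤) m)
  rw [rs_self] at hc
  have h1 := congrArg (rs L (le_top : O ≤ ⊤)) (apply_smul_comm ψ m (s i))
  rw [rs_smul, rs_smul, ← hc, ← mul_smul] at h1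
  have h2 : ro (le_top : O ≤ ⊤) (ψ m) = ro le_top (ψ (s i)) * c :=
    hO.inj le_rfl (by rw [rs_self]; exact h1)
  have hu : z ∈ X.basicOpen (ψ m) := (hbasic _).2 hm
  rw [X.mem_basicOpen _ z (show z ∈ (⊤ : X.Opens) from trivial)] at hu
  have hv : z ∈ X.basicOpen (ψ (s i)) := by
    rw [X.mem_basicOpen _ z (show z ∈ (⊤ : X.Opens) from trivial)]
    have e : ∀ a : Γ(X, ⊤), X.presheaf.germ O z hzO (ro le_top a) = X.presheaf.germ ⊤ z trivial a := fun a =>
      TopCat.Presheaf.germ_res_apply _ _ _ _ _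
    have h3 := congrArg (X.presheaf.germ O z hzO).hom h2
    rw [map_mul] at h3
    rw [← e] at hu ⊢
    exact isUnit_of_mul_isUnit_left (h3 ▸ hu)
  exact (hbasic _).1 hv (hle (Ideal.subset_span ⟨(ψ, i), rfl⟩))

/-- Invertible modules on an affine scheme with isomorphic sections are isomorphic. -/
theorem nonempty_iso_of_linearEquiv {R : CommRingCat.{u}} {L L' : (Spec R).Modules} (hL : PicF.IsInvertible L)
    (hL' : PicF.IsInvertible L') (e : Γ(L, ⊤) ≃ₗ[Γ(Spec R, ⊤)] Γ(L', ⊤)) : Nonempty (L ≅ L') := by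
  haveI : Coh.IsQCoh L := Groth.L21.Extend.isQCoh_of_isInvertible hL
  haveI : Coh.IsQCoh L' := Groth.L21.Extend.isQCoh_of_isInvertible hL'
  haveI : IsIso L.fromTildeΓ := Scheme.Modules.isIso_fromTildeΓ_of_isQuasicoherent _
  haveI : IsIso L'.fromTildeΓ := Scheme.Modules.isIso_fromTildeΓ_of_isQuasicoherent _
  let f : (modulesSpecToSheaf.obj L).presheaf.obj (op ⊤) ≅ (modulesSpecToSheaf.obj L').presheaf.obj (op ⊤) :=
    (ModuleCat.restrictScalars (Scheme.ΓSpecIso R).inv.hom).mapIso (LinearEquiv.toModuleIso e)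
  exact ⟨(asIso L.fromTildeΓ).symm ≪≫ (tilde.functor R).mapIso f ≪≫ asIso L'.fromTildeΓ⟩

end Groth.L19.PicFin
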