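import Groth.Agent.L19.PicFin.ClassBound
import Mathlib.RingTheory.TensorProduct.Basic
import Mathlib.RingTheory.Nullstellensatz

/-!
# Proportional families generating a locally principal ideal
-/

set_option autoImplicit false
set_option linter.style.haveILetI false
set_option linter.unusedSectionVars false

universe u

noncomputable section

namespace Groth.L19.PicFin

theorem IsLP.map {A B : Type*} [CommRing A] [CommRing B] {I : Ideal A} (hI : IsLP I) (φ : A →+* B) :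
    IsLP (I.map φ) := by
  intro P hP
  obtain ⟨f, hf, t, ht, h⟩ := hI (P.comap φ) (hP.comap φ)
  refine ⟨φ f, Ideal.mem_map_of_mem _ hf, φ t, ht, fun x hx => ?_⟩
  refine Submodule.span_induction ?_ ?_ (fun a b _ _ ha hb => ?_) (fun c a _ ha => ?_) hx
  · rintro _ ⟨y, hy, rfl⟩
    rw [← map_mul]
    exact map_dvd φ (h y hy)
  · rw [MulZeroClass.mul_zero]; exact dvd_zero _
  · rw [mul_add]; exact dvd_add ha hb
  · rw [smul_eq_mul, mul_left_comm]; exact ha.mul_left c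

variable {C : Type*} [CommRing C] [IsDomain C] {ι : Type*}

/-- The multiplier between proportional families generating the same locally principal ideal. -/
theorem exists_mul_ratio (F₁ F₂ : ι → C) {H : Ideal C} (hH0 : H ≠ ⊥) (hH : IsLP H)
    (h₁ : Ideal.span (Set.range F₁) = H) (h₂ : ∀ x, F₂ x ∈ H)
    (hx : ∀ x y, F₁ x * F₂ y = F₁ y * F₂ x) : ∃ c : C, ∀ x, F₂ x = c * F₁ x := by
  let D : Ideal C :=
    { carrier := {q | ∃ c, ∀ x, q * F₂ x = c * F₁ x}
      add_mem' := fun {a b} ⟨c, hc⟩ ⟨d, hd⟩ => ⟨c + d, fun x => by rw [add_mul, add_mul, hc, hd]⟩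
      zero_mem' := ⟨0, fun x => by simp⟩
      smul_mem' := fun r a ⟨c, hc⟩ => ⟨r * c, fun x => by rw [smul_eq_mul, mul_assoc, mul_assoc, hc]⟩ }
  suffices hD : D = ⊤ by
    obtain ⟨c, hc⟩ := (show (1 : C) ∈ D from hD ▸ Submodule.mem_top)
    exact ⟨c, fun x => by rw [← hc, _root_.one_mul]⟩
  by_contra hD
  obtain ⟨P, hP, hle⟩ := Ideal.exists_le_maximal D hD
  obtain ⟨f, hf, t, ht, hdvd⟩ := hH P hP.isPrime
  have hf0 : f ≠ 0 := by
    intro h0
    refine hH0 (eq_bot_iff.2 fun y hy => ?_)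
    have h1 := hdvd y hy
    rw [h0, zero_dvd_iff, mul_eq_zero] at h1
    exact (Submodule.mem_bot C).2 (h1.resolve_left fun h => ht (h ▸ P.zero_mem))
  choose a₁ ha₁ using fun x => hdvd (F₁ x) (h₁ ▸ Ideal.subset_span ⟨x, rfl⟩)
  choose a₂ ha₂ using fun x => hdvd (F₂ x) (h₂ x)
  obtain ⟨x, hx1⟩ : ∃ x, a₁ x ∉ P := by
    by_contra h
    push Not at h
    let J : Ideal C :=
      { carrier := {y | ∃ p ∈ P, t * y = f * p}
        add_mem' := fun {a b} ⟨p, hp, e⟩ ⟨q, hq, e'⟩ => ⟨p + q, P.add_mem hp hq, by rw [mul_add, mul_add, e, e']⟩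
        zero_mem' := ⟨0, P.zero_mem, by simp⟩
        smul_mem' := fun r a ⟨p, hp, e⟩ => ⟨r * p, P.mul_mem_left r hp, by
          rw [smul_eq_mul, mul_left_comm, e, mul_left_comm]⟩ }
    have h3 : H ≤ J := h₁ ▸ Ideal.span_le.2 (by rintro _ ⟨x, rfl⟩; exact ⟨a₁ x, h x, ha₁ x⟩)
    obtain ⟨p, hp, e⟩ := h3 hf
    rw [mul_comm t] at e
    exact ht (mul_left_cancel₀ hf0 e ▸ hp)
  refine hx1 (hle ⟨a₂ x, fun y => mul_left_cancel₀ hf0 ?_⟩)
  linear_combination (norm := ring1) t * hx x y - F₂ y * ha₁ x + F₁ y * ha₂ x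

/-- Proportional families generating the same locally principal ideal differ by a unit. -/
theorem exists_unit_ratio (F₁ F₂ : ι → C) {H : Ideal C} (hH0 : H ≠ ⊥) (hH : IsLP H)
    (h₁ : Ideal.span (Set.range F₁) = H) (h₂ : Ideal.span (Set.range F₂) = H)
    (hx : ∀ x y, F₁ x * F₂ y = F₁ y * F₂ x) : ∃ u : Cˣ, ∀ x, F₂ x = u * F₁ x := by
  obtain ⟨c, hc⟩ := exists_mul_ratio F₁ F₂ hH0 hH h₁ (fun x => h₂ ▸ Ideal.subset_span ⟨x, rfl⟩) hx
  obtain ⟨d, hd⟩ := exists_mul_ratio F₂ F₁ hH0 hH h₂ (fun x => h₁ ▸ Ideal.subset_span ⟨x, rfl⟩)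
    (fun x y => by rw [mul_comm (F₂ x), mul_comm (F₂ y)]; exact (hx x y).symm)
  obtain ⟨x, hx0⟩ : ∃ x, F₁ x ≠ 0 := by
    by_contra h
    push Not at h
    exact hH0 (h₁ ▸ Ideal.span_eq_bot.2 (by rintro _ ⟨x, rfl⟩; exact h x))
  have h1 : c * d = 1 := mul_right_cancel₀ hx0 (by
    rw [_root_.one_mul]
    linear_combination (norm := ring1) -hd x - d * hc x)
  exact ⟨⟨c, d, h1, by rw [mul_comm, h1]⟩, hc⟩

/-- A maximal ideal of an algebra of finite type over an algebraically closed field is the kernel of a point. -/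
theorem exists_point_ker {k A : Type u} [Field k] [IsAlgClosed k] [CommRing A] [Algebra k A]
    [Algebra.FiniteType k A] (P : Ideal A) [P.IsMaximal] : ∃ g : A →ₐ[k] k, RingHom.ker g = P := by
  haveI : IsJacobsonRing A := isJacobsonRing_of_finiteType (A := k)
  letI : Field (A ⧸ P) := Ideal.Quotient.field P
  haveI : Algebra.FiniteType k (A ⧸ P) :=
    Algebra.FiniteType.of_surjective (Ideal.Quotient.mkₐ k P) (Ideal.Quotient.mkₐ_surjective k P)
  haveI : Module.Finite k (A ⧸ P) := finite_of_finite_type_of_isJacobsonRing k (A ⧸ P)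
  let e : (A ⧸ P) ≃ₐ[k] k := (AlgEquiv.ofBijective (Algebra.ofId k (A ⧸ P))
    ⟨(algebraMap k (A ⧸ P)).injective, IsAlgClosed.algebraMap_bijective_of_isIntegral.2⟩).symm
  refine ⟨e.toAlgHom.comp (Ideal.Quotient.mkₐ k P), Ideal.ext fun a => ?_⟩
  show e (Ideal.Quotient.mk P a) = 0 ↔ a ∈ P
  rw [EmbeddingLike.map_eq_zero_iff, Ideal.Quotient.eq_zero_iff_mem]

end Groth.L19.PicFin
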